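import Groth.Agent.H1.Classical.CentralizerRed
import Groth.Agent.H1.Classical.UnipotentRadical

/-!
A reductive group which is not a torus has a non-trivial Weyl group.
-/

universe u

open CategoryTheory MonoidalCategory CartesianMonoidalCategory MonObj GrpObj AlgebraicGeometry

namespace Groth.Agent.H66.Weyl

set_option linter.style.haveILetI false
set_option linter.unusedSectionVars false

open Groth.Agent.H1.Classical Groth.Agent.Lib.RedPts Groth.Agent.Lib.RedPts.Points Scheme' Unipotent MaxTorusScheme MaxTorusApply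
  Groth.Agent.Lib.GrpSch WithConv Torus Torus.Centraliser RadU

attribute [local instance] baseAlgebra

variable {k : Type u} [Field k] [IsAlgClosed k] {A : Type u} [CommRing A] [HopfAlgebra k A] [Algebra.FiniteType k A]
  [IsDomain A]

/-- If every normalising element lies in the maximal torus, the reductive group is the torus. -/
theorem isIso_of_normalizer_le {T : Over (Spec (CommRingCat.of k))} [GrpObj T] (iT : T ⟶ GA k A) [IsMonHom iT]
    (hG : Red.IsReductiveOver k (GA k A)) (hT : AGF.IsMaxTorus iT)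
    (h : ∀ n : HopfPts.Pt k A, (ptsOf iT).map (MulAut.conj n).toMonoidHom = ptsOf iT → n ∈ ptsOf iT) : IsIso iT := by
  haveI := hT.2.1
  haveI := locallyOfFiniteType_GA (k := k) (A := A)
  haveI : Smooth (GA k A).hom := hG.2.1
  haveI : ConnectedSpace (GA k A).left := hG.2.2.1
  obtain ⟨hcl, hsm, hconn, haff⟩ := TorusPts.torus_props iT hT.2.2.1
  haveI := hcl
  haveI := hsm
  haveI := hconn
  haveI := haff
  have hsolT : Red.IsSolvableGrp T := RadU.isSolvableGrp_of_mul_comm fun X a b =>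
    Groth.Agent.Lib.Tori.Comm.mul_comm_of_isTorus hT.2.2.1 a b
  obtain ⟨B, _, iB, f, hB, hf⟩ := exists_borel_solvable iT hsolT
  haveI := hB.1
  haveI := hB.2.1
  haveI := hB.2.2.1
  haveI := hB.2.2.2.1
  haveI : IsAffine B.left := isAffine_of_isAffineHom iB.left
  have hMax := isMax_ptsOf_torus iT hT
  have hBor := isBor_ptsOf iB hB
  have hTB : ptsOf iT ≤ ptsOf iB := MaxTorusBorel.ptsOf_le _ _ (f := f) hf
  obtain ⟨W, _, σ, hσ⟩ := GenRep.exists_gen (HopfPts.D k A) hasMul_pts pts_ext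
  obtain ⟨V, _, v, hv1, hv2, hv3, hv4, hv5, -, -, hVT⟩ := exists_unipPart B hB.2.2.2.2.1
  haveI := hv1
  haveI := hv2
  haveI := hv3
  haveI := hv4
  haveI : IsAffine V.left := isAffine_of_isAffineHom v.left
  haveI : IsClosedImmersion (v ≫ iB).left := by rw [Over.comp_left]; infer_instance
  -- the unipotent part of the Borel subgroup
  have hVB : ptsOf (v ≫ iB) ≤ ptsOf iB := MaxTorusBorel.ptsOf_le _ _ (f := v) rfl
  obtain ⟨A', _, _, _, _, e', he'⟩ := exists_GA V
  haveI := he'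
  haveI : IsMonHom e'.inv := inferInstance
  obtain ⟨r, hr, hrreg⟩ := exists_ptMap (e'.inv ≫ v ≫ iB)
  obtain ⟨W', _, σ', hσ'⟩ := Torus.GenRep.exists_gen (HopfPts.D k A') hasMul_pts pts_ext
  have hV' : Red.HasNoSubtorus k (GA k A') := fun T' _ j _ _ hT' => hv5 T' (j ≫ e'.inv) hT'
  have hnil : ∀ s ∈ ptsOf (v ≫ iB), IsNilpotent (σ s - 1) := by
    rintro s ⟨x, hx⟩
    obtain ⟨χ, hχ⟩ := ptHom_surjective (x ≫ e'.hom)
    have hs : s = r χ := ptHom_injective (by
      rw [← show x ≫ v ≫ iB = ptHom (𝟙_ _) s from hx, ← hr χ, hχ]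
      simp only [Category.assoc, Iso.hom_inv_id_assoc])
    rw [hs]
    exact ImageTorus.nilp_of_gen hσ' (nilp_GA hV' hσ' χ) (ρ := σ.comp r) fun w l => hrreg _ (hσ.reg w l)
  have hin : ∀ g, (∀ t ∈ ptsOf iT, g⁻¹ * t * g ∈ ptsOf iB) → ∀ s ∈ ptsOf (v ≫ iB), g⁻¹ * s * g ∈ ptsOf iB := by
    intro g hg s hs
    set B' := (ptsOf iB).map (MulAut.conj g).toMonoidHom with hB'
    have hTB' : ptsOf iT ≤ B' := fun t ht => by
      rw [hB', MaxTorus.mem_map]
      exact hg t ht
    have hgB : B'.map (MulAut.conj g⁻¹).toMonoidHom = ptsOf iB := SetLike.ext fun x => by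
      rw [hB', MaxTorus.mem_map, MaxTorus.mem_map,
        show g⁻¹ * (g⁻¹⁻¹ * x * g⁻¹) * g = x by group]
    obtain ⟨n, hnT, hnB⟩ := WeylFinite.exists_normalizer hasMul_pts hσ hBor hMax hTB' hTB hgB
    have hnB' : n ∈ ptsOf iB := hTB (h n hnT)
    have hBB : B' = ptsOf iB := SetLike.ext fun x => by
      constructor
      · intro hx
        have : n * x * n⁻¹ ∈ ptsOf iB := by
          rw [← hnB, MaxTorus.mem_map, show n⁻¹ * (n * x * n⁻¹) * n = x by group]
          exact hx
        have h2 := (ptsOf iB).mul_mem ((ptsOf iB).mul_mem ((ptsOf iB).inv_mem hnB') this) hnB'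
        rwa [show n⁻¹ * (n * x * n⁻¹) * n = x by group] at h2
      · intro hx
        have : n * x * n⁻¹ ∈ ptsOf iB := (ptsOf iB).mul_mem ((ptsOf iB).mul_mem hnB' hx) ((ptsOf iB).inv_mem hnB')
        rw [← hnB, MaxTorus.mem_map, show n⁻¹ * (n * x * n⁻¹) * n = x by group] at this
        exact this
    have : s ∈ B' := hBB ▸ hVB hs
    rwa [hB', MaxTorus.mem_map] at this
  obtain ⟨N, hNcl, hNirr, hNn, hNsol, hNnil, hHN⟩ := Chevalley.exists_normal_unipotent hasMul_pts hσ hBor hMax hTB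
    (sirr_ptsOf (v ≫ iB)) hnil hin
  haveI := hNsol
  obtain ⟨C, _, c, hc1, hc2, hc3, hc4, -, hfac, hpt⟩ := exists_subgroup N hNcl hNirr
  haveI := hc1
  haveI := hc2
  haveI := hc3
  haveI := hc4
  haveI : IsAffine C.left := isAffine_of_isAffineHom c.left
  haveI : Mono c := Over.mono_of_mono_left c
  have hno : NoTorsion C := fun x m hm hx => by
    obtain ⟨s, hs, hxs⟩ := hpt x
    have hsm : s ^ m = 1 := ptHom_injective (by rw [map_pow, ← hxs, ← Unipotent.pow_comp, hx, MonObj.one_comp, map_one])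
    rw [← cancel_mono c, MonObj.one_comp, hxs, Cartan.eq_one_of_nilp hσ.faith hm hsm (hNnil s hs), map_one]
  have hn' : IsNormalPts c := fun g w => by
    obtain ⟨b, hb⟩ := ptHom_surjective g
    obtain ⟨x, hx, hwx⟩ := hpt w
    obtain ⟨w', hw'⟩ := hfac (𝟙_ _) (ptHom _ (b * x * b⁻¹)) fun f hf => by
      rw [algHomOf_ptHom, hf _ (hNn.conj_mem x hx b), map_zero]
    exact ⟨w', by rw [hw', hwx, map_mul, map_mul, map_inv, hb]⟩
  haveI : IsIso C.hom := hG.2.2.2 C c hc2 hc3 hc4 (RadU.isNormalHom_of_pts _ hn') (hasNoSubtorus_of_noTorsion hno)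
  have hN1 : ∀ x ∈ N, x = 1 := by
    intro x hx
    obtain ⟨w, hw⟩ := hfac (𝟙_ _) (ptHom _ x) fun f hf => by rw [algHomOf_ptHom, hf x hx, map_zero]
    have h1 : w = 1 := Over.OverMorphism.ext (by rw [← cancel_mono C.hom, Over.w, Over.w])
    exact ptHom_injective (by rw [map_one, ← hw, h1, MonObj.one_comp])
  haveI : Mono (v ≫ iB) := Over.mono_of_mono_left _
  have hVtriv : Red.IsTrivialGrp V := by
    have hid : toUnit V ≫ η[V] = 𝟙 V := MaxTorusExists.hom_ext_of_points _ _ fun x => by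
      obtain ⟨s, hs⟩ := ptHom_surjective (x ≫ v ≫ iB)
      have hs1 : s = 1 := hN1 s (hHN ⟨x, hs.symm⟩)
      rw [Category.comp_id, ← Category.assoc, toUnit_unique (x ≫ toUnit V) (toUnit _), ← Hom.one_def,
        ← cancel_mono (v ≫ iB), MonObj.one_comp, ← hs, hs1, map_one]
    haveI : IsIso (toUnit V) := ⟨η[V], hid, toUnit_unique _ _⟩
    haveI : IsIso (toUnit V).left := inferInstanceAs (IsIso ((Over.forget _).map (toUnit V)))
    show IsIso V.hom
    rw [← Over.w (toUnit V)]
    haveI : IsIso (𝟙_ (Over (Spec (CommRingCat.of k)))).hom := inferInstanceAs (IsIso (𝟙 _))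
    infer_instance
  have hBT := hVT hVtriv
  haveI : Mono iB := Over.mono_of_mono_left iB
  have htop := UnipotentPart.eq_top_of_comm HopfPts.sirr_univ hasMul_pts hσ hBor (TorusPts.isTor_ptsOf iB hBT).comm
  obtain ⟨g, hg⟩ := exists_factor iB (𝟙 (GA k A)) fun x => by
    obtain ⟨s, hs⟩ := ptHom_surjective x
    exact ⟨s, htop ▸ Subgroup.mem_top s, by rw [Category.comp_id, hs]⟩
  haveI : IsIso iB := ⟨g, by rw [← cancel_mono iB, Category.assoc, hg, Category.comp_id, Category.id_comp], hg⟩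
  haveI : IsIso f := hT.2.2.2 B iB f hBT hf
  rw [← hf]
  infer_instance

end Groth.Agent.H66.Weyl
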