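import Groth.Agent.H66.Weyl.Chars
import Groth.Agent.H66.Weyl.NonTrivial
import Groth.Agent.H66.LieWt.Main
import Groth.Agent.H1.Classical.FiniteCentre
import Groth.Agent.H87.TorusIn

/-!
Every weight on the cotangent space of a semisimple group gives a reflection.
-/

set_option autoImplicit false

universe u

open CategoryTheory MonoidalCategory CartesianMonoidalCategory MonObj GrpObj AlgebraicGeometry

namespace Groth.Agent.H66.Weyl

set_option linter.style.haveILetI false
set_option linter.unusedSectionVars false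

open Groth.Agent.H1.Classical Groth.Agent.Lib.RedPts Groth.Agent.Lib.RedPts.Points Scheme' MaxTorusScheme WithConv
  Groth.Agent.H1.Classical.Words Groth.Agent.H66.LieWt TensorProduct

attribute [local instance] baseAlgebra

noncomputable section

variable {k : Type u} [Field k] [IsAlgClosed k] {A : Type u} [CommRing A] [HopfAlgebra k A]
  [Algebra.FiniteType k A] [IsDomain A] {r : ℕ} (π : A →ₐc[k] MonoidAlgebra k (Lat r))

omit [IsAlgClosed k] in
theorem mapDomain_surjective {G H : Type*} [CommGroup G] [CommGroup H] (f : G →* H) (hf : Function.Surjective f) :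
    Function.Surjective (MonoidAlgebra.mapDomainBialgHom k f) := fun z => by
  induction z using MonoidAlgebra.induction_linear with
  | zero => exact ⟨0, map_zero _⟩
  | add x y hx hy =>
    obtain ⟨x', rfl⟩ := hx
    obtain ⟨y', rfl⟩ := hy
    exact ⟨x' + y', map_add _ _ _⟩
  | single c a =>
    obtain ⟨g, rfl⟩ := hf c
    exact ⟨MonoidAlgebra.single g a, MonoidAlgebra.mapDomainBialgHom_single _ _ _⟩

omit [IsAlgClosed k] in
theorem ptHom_comp_specHom {B : Type u} [CommRing B] [HopfAlgebra k B] (g : A →ₐc[k] B) (W : Over (Spec (CommRingCat.of k)))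
    (χ : HopfPts.Pt k B) :
    ptHom W χ ≫ specHom g = ptHom W (toConv (χ.ofConv.comp (g : A →ₐ[k] B))) :=
  algHomOf_injective (AlgHom.ext fun a => by rw [algHomOf_specHom, algHomOf_ptHom, algHomOf_ptHom]; rfl)

theorem ptHom_pt (W : Over (Spec (CommRingCat.of k))) (χ : Lat r →* kˣ) :
    ptHom W (toConv (chi χ)) ≫ specHom π = ptHom W (pt π χ) :=
  algHomOf_injective (AlgHom.ext fun a => by
    rw [algHomOf_specHom, algHomOf_ptHom, algHomOf_ptHom, pt_apply])

theorem mem_ptsOf_specHom {ν : HopfPts.Pt k A} : ν ∈ ptsOf (specHom π) ↔ ∃ χ, pt π χ = ν := by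
  constructor
  · rintro ⟨x, hx⟩
    obtain ⟨ψ, hψ⟩ := ptHom_surjective x
    obtain ⟨χ, hχ⟩ := chi_surjective ψ.ofConv
    refine ⟨χ, ptHom_injective ?_⟩
    rw [← show x ≫ specHom π = ptHom (𝟙_ _) ν from hx, ← hψ, ← ptHom_pt, hχ, toConv_ofConv]
  · rintro ⟨χ, rfl⟩
    exact ⟨ptHom _ (toConv (chi χ)), ptHom_pt π _ χ⟩

theorem smooth_lat : Smooth (GA k (MonoidAlgebra k (Lat r))).hom := smooth_GA

/-- An element normalising the torus acts on the lattice. -/
theorem exists_rel (hπ : Function.Surjective π) {n : HopfPts.Pt k A}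
    (hn : (ptsOf (specHom π)).map (MulAut.conj n).toMonoidHom = ptsOf (specHom π)) :
    ∃ w, Rel π n w := by
  haveI : Smooth (GA k (MonoidAlgebra k (Lat r))).hom := smooth_lat
  haveI := isClosedImmersion_specHom π hπ
  haveI : Mono (specHom π) := Over.mono_of_mono_left _
  obtain ⟨f, hf⟩ := exists_iso_conj (specHom π) (specHom π) n hn
  haveI : IsMonHom (f.hom ≫ specHom π) := by
    rw [hf, ← ConjIso.comp_conjIso]
    infer_instance
  haveI : IsMonHom f.hom := CentralizerBorel.isMonHom_of_mono_comp f.hom (specHom π)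
  obtain ⟨ψ, hψ⟩ := H66.Vec.exists_bialgHom f.hom
  refine ⟨MonoidAlgebra.mapDomainOfBialgHom ψ, fun χ => ?_⟩
  apply ptHom_injective
  have h1 : ptHom (𝟙_ _) (toConv (chi χ)) ≫ AGF.conjBy (ptHom _ n) (specHom π) =
      ptHom _ (n * pt π χ * n⁻¹) :=
    point_conj n (pt π χ) (specHom π) _ (ptHom_pt π _ χ)
  rw [← h1, ← hf, ← Category.assoc, ← hψ]
  refine algHomOf_injective (AlgHom.ext fun a => ?_)
  erw [algHomOf_specHom, algHomOf_specHom]
  rw [algHomOf_ptHom, algHomOf_ptHom, pt_apply, toConv_ofConv]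
  congr 1
  generalize (π a : MonoidAlgebra k (Lat r)) = z
  induction z using MonoidAlgebra.induction_linear with
  | zero => simp
  | add x y hx hy => simp only [map_add, hx, hy]
  | single m c => rw [← MonoidAlgebra.single_mapDomainOfBialgHom, chi_single, chi_single]; rfl

omit [IsAlgClosed k] in
/-- Points killing the weights outside the kernel commute with the subtorus. -/
theorem commute_of_ker {Q : Type*} [CommGroup Q] (q : Lat r →* Q) {Γ : Type u} [CommRing Γ] [Algebra k Γ]
    (gm : A →ₐ[k] Γ) (hgm : ∀ v b, q v ≠ 1 → Homog π v b → gm b = 0) (χ : MonoidAlgebra k Q →ₐ[k] Γ) :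
    Commute (toConv gm) (toConv (χ.comp ((MonoidAlgebra.mapDomainBialgHom k q).comp π : A →ₐc[k] MonoidAlgebra k Q).toAlgHom)) := by
  classical
  let F : MonoidAlgebra A (Lat r) →ₐ[k] Γ :=
    MonoidAlgebra.liftNCAlgHom gm
      (((χ : MonoidAlgebra k Q →* Γ).comp (MonoidAlgebra.of k Q)).comp q) fun _ _ => Commute.all _ _
  have hF : ∀ (m : Lat r) (b : A), F (MonoidAlgebra.single m b) = gm b * χ (MonoidAlgebra.single (q m) 1) := fun m b => by
    simp [F, MonoidAlgebra.liftNCAlgHom, MonoidAlgebra.liftNCRingHom]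
  have hg : push F (toConv (incl A (Lat r))) = toConv gm := by
    refine congrArg toConv (AlgHom.ext fun a => ?_)
    show F (MonoidAlgebra.single (1 : Lat r) a) = gm a
    rw [hF, map_one, ← MonoidAlgebra.one_def, map_one, _root_.mul_one]
  have ht : push F (toConv (tor π)) =
      toConv (χ.comp ((MonoidAlgebra.mapDomainBialgHom k q).comp π : A →ₐc[k] MonoidAlgebra k Q).toAlgHom) := by
    refine congrArg toConv (AlgHom.ext fun a => ?_)
    show F (iota (π a)) = χ (MonoidAlgebra.mapDomainBialgHom k q (π a))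
    generalize (π a : MonoidAlgebra k (Lat r)) = z
    induction z using MonoidAlgebra.induction_linear with
    | zero => simp
    | add x y hx hy => simp only [map_add, hx, hy]
    | single m c =>
      rw [iota_single, hF, AlgHom.commutes, MonoidAlgebra.mapDomainBialgHom_single, ← Algebra.smul_def, ← map_smul,
        MonoidAlgebra.smul_single, smul_eq_mul, _root_.mul_one]
  have hcj : push F (toConv (cj π)) = toConv gm := by
    refine congrArg toConv (AlgHom.ext fun a => ?_)
    show F (cj π a) = gm a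
    have key : ∀ y : MonoidAlgebra A (Lat r), F y = ∑ m ∈ y.coeff.support, F (MonoidAlgebra.single m (y.coeff m)) := by
      intro y
      rw [← map_sum]
      congr 1
      refine MonoidAlgebra.coeff_injective ?_
      rw [MonoidAlgebra.coeff_sum]
      simp only [MonoidAlgebra.coeff_single]
      exact (Finsupp.sum_single y.coeff).symm
    conv_rhs => rw [← sum_coeff π a, map_sum]
    rw [key]
    refine Finset.sum_congr rfl fun m _ => ?_
    by_cases hm : q m = 1
    · rw [hF, hm, ← MonoidAlgebra.one_def, map_one, _root_.mul_one]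
    · rw [hF, hgm m _ hm (homog_coeff π a m), zero_mul]
  have h := congrArg (push F) (cj_mul π)
  rw [map_mul, map_mul, hcj, ht, hg] at h
  exact h

theorem commute_of_mapDomain {s : ℕ} (q : Lat r →* Lat s)
    (hc : ∀ a, MonoidAlgebra.mapDomain q (cj π a) = MonoidAlgebra.single 1 a) (χ : Lat s →* kˣ) (g : HopfPts.Pt k A) :
    g * pt π (χ.comp q) = pt π (χ.comp q) * g := by
  have key : ∀ y : MonoidAlgebra A (Lat r), evF (χ.comp q) g y =
      MonoidAlgebra.liftNCAlgHom g.ofConv ((Units.coeHom k).comp χ) (fun _ _ => Commute.all _ _)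
        (MonoidAlgebra.mapDomain q y) := by
    intro y
    induction y using MonoidAlgebra.induction_linear with
    | zero => simp
    | add x y hx hy => simp only [map_add, MonoidAlgebra.mapDomain_add, hx, hy]
    | single m b =>
      rw [evF_single, MonoidAlgebra.mapDomain_single]
      simp [MonoidAlgebra.liftNCAlgHom, MonoidAlgebra.liftNCRingHom]
  have h : pt π (χ.comp q) * g * (pt π (χ.comp q))⁻¹ = g := by
    refine ofConv_injective (AlgHom.ext fun a => ?_)
    rw [← evF_cj, key, hc]
    simp [MonoidAlgebra.liftNCAlgHom, MonoidAlgebra.liftNCRingHom]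
  exact (mul_inv_eq_iff_eq_mul.1 h).symm

theorem pt_comp {s : ℕ} (q : Lat r →* Lat s) (χ : Lat s →* kˣ) :
    toConv ((chi χ).comp ((MonoidAlgebra.mapDomainBialgHom k q).comp π : A →ₐc[k] MonoidAlgebra k (Lat s)).toAlgHom) =
      pt π (χ.comp q) := by
  refine ofConv_injective (AlgHom.ext fun a => ?_)
  show chi χ (MonoidAlgebra.mapDomainBialgHom k q (π a)) = chi (χ.comp q) (π a)
  generalize (π a : MonoidAlgebra k (Lat r)) = z
  induction z using MonoidAlgebra.induction_linear with
  | zero => simp
  | add x y hx hy => simp only [map_add, hx, hy]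
  | single m c => rw [MonoidAlgebra.mapDomainBialgHom_single, chi_single, chi_single]; rfl

/-- The weights are not contained in the kernel of a non-zero functional. -/
theorem exists_root_not_ker [CharZero k] (hG : Red.IsSemisimpleOver k (GA k A)) (hπ : Function.Surjective π) (q : Lat r →* Lat 1)
    (hq : q ≠ 1) : ∃ v ∈ Roots π, q v ≠ 1 := by
  by_contra hcon
  push Not at hcon
  haveI : IsNoetherianRing A := Algebra.FiniteType.isNoetherianRing k A
  obtain ⟨m₀, hm₀⟩ : ∃ m, q m ≠ 1 := by
    by_contra h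
    push Not at h
    exact hq (MonoidHom.ext h)
  have hcent := central_of_weights π q fun w hw b hb hbm => by
    by_contra h2
    exact hw (hcon w ⟨fun h1 => hw (by rw [h1, map_one]), b, hb, hbm, h2⟩)
  obtain ⟨W, _, σ, hσ⟩ := Torus.GenRep.exists_gen (HopfPts.D k A) hasMul_pts pts_ext
  have hcl := Torus.Diagonal.isCl_centralizer (D := HopfPts.D k A) hσ.reg hσ.faith Set.univ
  have hfin := FiniteCentre.finite_central hG (P := Subgroup.center (HopfPts.Pt k A))
    (by convert hcl using 1
        ext g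
        simp [Subgroup.mem_center_iff, eq_comm])
    fun s hs g => Subgroup.mem_center_iff.1 hs g
  let ψ : ℕ → (Lat 1 →* kˣ) := fun j => charOf fun _ => (two : kˣ) ^ (j : ℤ)
  have hmem : ∀ j, pt π ((ψ j).comp q) ∈ Subgroup.center (HopfPts.Pt k A) := fun j => by
    rw [Subgroup.mem_center_iff]
    exact fun g => commute_of_mapDomain π q hcent (ψ j) g
  refine hfin.not_infinite (Set.infinite_of_injective_forall_mem (f := fun j => pt π ((ψ j).comp q)) (fun i j hij => ?_)
    hmem)
  have h := DFunLike.congr_fun (pt_injective π hπ hij) m₀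
  change ∏ _ : Fin 1, ((two : kˣ) ^ (i : ℤ)) ^ _ = ∏ _ : Fin 1, ((two : kˣ) ^ (j : ℤ)) ^ _ at h
  simp only [Fin.prod_univ_one, ← zpow_mul] at h
  have hne : (q m₀).toAdd 0 ≠ 0 := fun h0 =>
    hm₀ (Multiplicative.toAdd.injective (funext fun x => by rw [Fin.eq_zero x]; exact h0))
  exact Int.ofNat_inj.1 (mul_right_cancel₀ hne (two_zpow_injective h))

/-- The part of one weight of a linear form. -/
def wtPart (α : Lat r) (φ : A →ₗ[k] k) : A →ₗ[k] k where
  toFun b := φ ((cj π b).coeff α)
  map_add' b b' := by simp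
  map_smul' z b := by simp

omit [IsAlgClosed k] [Algebra.FiniteType k A] [IsDomain A] in
theorem isDer_wtPart {α : Lat r} (hα1 : α ≠ 1) {φ : A →ₗ[k] k} (hφ : IsDer φ) : IsDer (wtPart π α φ) := by
  classical
  intro x y
  show φ ((cj π (x * y)).coeff α) = φ ((cj π x).coeff α) * _ + _ * φ ((cj π y).coeff α)
  rw [map_mul, MonoidAlgebra.coeff_mul]
  simp only [Finsupp.sum, Finsupp.finsetSum_apply, map_sum]
  have hterm : ∀ u v, φ ((if u * v = α then (cj π x).coeff u * (cj π y).coeff v else 0)) =
      (if v = 1 ∧ u = α then φ ((cj π x).coeff u) * Coalgebra.counit (R := k) y else 0) +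
      (if u = 1 ∧ v = α then Coalgebra.counit (R := k) x * φ ((cj π y).coeff v) else 0) := by
    intro u v
    by_cases huv : u * v = α
    · rw [if_pos huv, hφ, counit_coeff, counit_coeff, MonoidAlgebra.coeff_single, MonoidAlgebra.coeff_single,
        Finsupp.single_apply, Finsupp.single_apply]
      by_cases hv : v = 1 <;> by_cases hu : u = 1
      · exact absurd (by rw [← huv, hu, hv, _root_.mul_one]) hα1
      · subst hv
        rw [_root_.mul_one] at huv
        simp [huv, Ne.symm hu, hu, eq_comm, hα1, Ne.symm hα1]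
      · subst hu
        rw [_root_.one_mul] at huv
        simp [huv, hv, Ne.symm hv, hα1, Ne.symm hα1]
      · simp [hu, hv, Ne.symm hu, Ne.symm hv]
    · rw [if_neg huv, map_zero, if_neg, if_neg, add_zero]
      · rintro ⟨rfl, rfl⟩
        exact huv (_root_.one_mul _)
      · rintro ⟨rfl, rfl⟩
        exact huv (_root_.mul_one _)
  simp only [hterm, Finset.sum_add_distrib]
  congr 1
  · by_cases h1 : (cj π x).coeff α = 0
    · rw [h1, map_zero, zero_mul]
      refine Finset.sum_eq_zero fun u _ => Finset.sum_eq_zero fun v _ => ?_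
      split_ifs with h
      · rw [h.2, h1, map_zero, zero_mul]
      · rfl
    · rw [Finset.sum_eq_single α (fun u _ hu => Finset.sum_eq_zero fun v _ => if_neg fun h => hu h.2)
        (fun h => absurd (Finsupp.mem_support_iff.2 h1) h)]
      by_cases h2 : (cj π y).coeff 1 = 0
      · have : Coalgebra.counit (R := k) y = 0 := by
          have := counit_coeff π y 1
          rw [h2, map_zero, MonoidAlgebra.coeff_single, Finsupp.single_eq_same] at this
          exact this.symm
        simp [this]
      · rw [Finset.sum_eq_single 1 (fun v _ hv => if_neg fun h => hv h.1)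
          (fun h => absurd (Finsupp.mem_support_iff.2 h2) h), if_pos ⟨rfl, rfl⟩]
  · by_cases h1 : (cj π x).coeff 1 = 0
    · have : Coalgebra.counit (R := k) x = 0 := by
        have := counit_coeff π x 1
        rw [h1, map_zero, MonoidAlgebra.coeff_single, Finsupp.single_eq_same] at this
        exact this.symm
      simp [this]
    · rw [Finset.sum_eq_single 1 (fun u _ hu => Finset.sum_eq_zero fun v _ => if_neg fun h => hu h.1)
        (fun h => absurd (Finsupp.mem_support_iff.2 h1) h)]
      by_cases h2 : (cj π y).coeff α = 0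
      · rw [h2, map_zero, mul_zero]
        refine Finset.sum_eq_zero fun v _ => ?_
        split_ifs with h
        · rw [h.2, h2, map_zero, mul_zero]
        · rfl
      · rw [Finset.sum_eq_single α (fun v _ hv => if_neg fun h => hv h.2)
          (fun h => absurd (Finsupp.mem_support_iff.2 h2) h), if_pos ⟨rfl, rfl⟩]

/-- Every weight gives an element of the normaliser acting as a reflection. -/
theorem exists_reflection (hG : Red.IsReductiveOver k (GA k A)) (hπ : Function.Surjective π)
    (hT : AGF.IsMaxTorus (specHom π)) {α : Lat r} (hα : α ∈ Roots π) {s : ℕ} (q : Lat r →* Lat s) (hqα : q α = 1) :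
    ∃ n w, Rel π n w ∧ Function.Injective w ∧ w ≠ MonoidHom.id _ ∧ q.comp w = q := by
  classical
  haveI := hT.2.1
  haveI := locallyOfFiniteType (k := k) (A := A)
  haveI : Smooth (GA k A).hom := hG.2.1
  haveI : ConnectedSpace (GA k A).left := hG.2.2.1
  -- the subtorus
  let Q := q.range
  haveI : IsDomain (MonoidAlgebra k Q) :=
    Function.Injective.isDomain (MonoidAlgebra.mapDomainAlgHom k k Q.subtype).toRingHom
      (MonoidAlgebra.mapDomain_injective Q.subtype_injective)
  let ω : A →ₐc[k] MonoidAlgebra k Q := (MonoidAlgebra.mapDomainBialgHom k q.rangeRestrict).comp π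
  have hωs : Function.Surjective ω := (mapDomain_surjective _ q.rangeRestrict_surjective).comp hπ
  haveI : Algebra.FiniteType k (MonoidAlgebra k Q) := Algebra.FiniteType.of_surjective ω.toAlgHom hωs
  haveI := isClosedImmersion_specHom ω hωs
  haveI : Mono (specHom ω) := Over.mono_of_mono_left _
  have hdiag : HopfRep.IsDiagonalizable k (MonoidAlgebra k Q) := by
    refine eq_top_iff.2 ?_
    rintro z -
    induction z using MonoidAlgebra.induction_linear with
    | zero => exact zero_mem _
    | add x y hx hy => exact add_mem hx hy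
    | single g c =>
      rw [← _root_.mul_one c, ← smul_eq_mul, ← MonoidAlgebra.smul_single]
      exact Submodule.smul_mem _ _ (Submodule.subset_span
        ⟨by simp [MonoidAlgebra.counit_single], by simp [MonoidAlgebra.comul_single]⟩)
  obtain ⟨s', hs'⟩ := TorusSplit.isSplit_of_span hdiag
  have hS : Red.IsTorus (GA k (MonoidAlgebra k Q)) := Groth.Agent.Lib.Tori.Basic.isTorus_of_isSplit hs'
  obtain ⟨C, _, c, hc, hcc, hsC⟩ := Groth.Agent.Lib.MultSmooth.exists_centralizer_smooth
    (CentralizerScheme.isMultTypeFT_of_isTorus hS) (specHom ω)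
  haveI := hc.1
  haveI := hc.2.1
  obtain ⟨-, haC, -, hconC, hptC⟩ := CentralizerScheme.props (specHom ω) hS c hc
  haveI := haC
  haveI := hsC
  haveI := hconC
  haveI := hcc
  have hCred : Red.IsReductiveOver k C := CentralizerRed.isReductiveOver_centralizer hG (specHom ω) hS c hc
  obtain ⟨t, ht⟩ := (hc.2.2 _ (specHom π)).mpr fun X x h => by
    have e : h ≫ specHom ω = (h ≫ specHom (MonoidAlgebra.mapDomainBialgHom k q.rangeRestrict)) ≫ specHom π := by
      refine algHomOf_injective (AlgHom.ext fun a => ?_)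
      simp only [algHomOf_specHom]
      rfl
    rw [e, ← MonObj.mul_comp, ← MonObj.mul_comp, Groth.Agent.Lib.Tori.Comm.mul_comm_of_isTorus hT.2.2.1]
  haveI : IsMonHom (t ≫ c) := ht.symm ▸ inferInstance
  haveI : IsMonHom t := CentralizerBorel.isMonHom_of_mono_comp t c
  haveI : Mono t := mono_of_mono_fac ht
  -- the centraliser is not the torus
  have hnot : ¬ IsIso t := by
    intro hiso
    obtain ⟨hα1, a, ha, ham, ha2⟩ := hα
    obtain ⟨φ, hφ, hφa⟩ := exists_isDer ham ha2
    let φ' : A →ₗ[k] k := wtPart π α φ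
    have hφ' : IsDer φ' := isDer_wtPart π hα1 hφ
    let D := DualNumber k
    let W : Over (Spec (CommRingCat.of k)) :=
      Over.mk (Spec.map (CommRingCat.ofHom (algebraMap k D)))
    let jj : D →ₐ[k] Γ(W.left, ⊤) :=
      { ringHomOf (𝟙 W.left) with
        commutes' := fun z => ringHomOf_algebraMap' W (𝟙 W.left) (Category.id_comp _) z }
    have hjj : Function.Injective jj := by
      intro x y hxy
      have h : (Scheme.ΓSpecIso (CommRingCat.of D)).inv ≫ (𝟙 W.left : _ ⟶ Spec (CommRingCat.of D)).appTop =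
          (Scheme.ΓSpecIso (CommRingCat.of D)).inv := by
        simp [W]
      have h2 : Function.Injective ((Scheme.ΓSpecIso (CommRingCat.of D)).inv) :=
        (ConcreteCategory.bijective_of_isIso (Scheme.ΓSpecIso (CommRingCat.of D)).inv).1
      refine h2 ?_
      have h3 := congrArg (fun f => (f : CommRingCat.of D ⟶ _).hom x) h
      have h4 := congrArg (fun f => (f : CommRingCat.of D ⟶ _).hom y) h
      exact (h3.symm.trans hxy).trans h4
    let gm : A →ₐ[k] Γ(W.left, ⊤) := jj.comp (derAlg φ' hφ')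
    obtain ⟨z, hz⟩ := (hc.2.2 W (pointOf gm)).mpr fun X x h => by
      let res : Γ(W.left, ⊤) →ₐ[k] Γ(X.left, ⊤) :=
        { x.left.appTop.hom with
          commutes' := fun z => by
            show x.left.appTop.hom (baseHom W z) = baseHom X z
            simp only [baseHom, ← Over.w x, Scheme.Hom.comp_appTop]
            rfl }
      have hx : x ≫ pointOf gm = pointOf (res.comp gm) := algHomOf_injective (AlgHom.ext fun b => by
        rw [algHomOf_comp, algHomOf_pointOf, algHomOf_pointOf]; rfl)
      have hgm : ∀ v b, q.rangeRestrict v ≠ 1 → Homog π v b → res.comp gm b = 0 := by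
        intro v b hv hb
        have hv1 : v ≠ 1 := fun h1 => hv (by rw [h1, map_one])
        have hvα : v ≠ α := fun h1 => hv (Subtype.ext (by rw [h1]; exact hqα))
        have h0 : derAlg φ' hφ' b = 0 := by
          obtain ⟨h1, h2⟩ := derAlg_apply φ' hφ' b
          refine TrivSqZeroExt.ext ?_ ?_
          · rw [h1, TrivSqZeroExt.fst_zero]
            exact homog_mem_aug0 π hv1 hb
          · rw [h2, TrivSqZeroExt.snd_zero]
            show φ ((cj π b).coeff α) = 0
            rw [hb, MonoidAlgebra.coeff_single, Finsupp.single_eq_of_ne' hvα, map_zero]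
        show res (jj (derAlg φ' hφ' b)) = 0
        rw [h0, map_zero, map_zero]
      have hcomm := commute_of_ker π q.rangeRestrict (res.comp gm) hgm (algHomOf h)
      have hh : h ≫ specHom ω = pointOf ((algHomOf h).comp ω.toAlgHom) :=
        algHomOf_injective (AlgHom.ext fun a => by rw [algHomOf_pointOf, algHomOf_specHom]; rfl)
      rw [hx, hh, pointOf_mul, pointOf_mul]
      exact congrArg (fun F : WithConv (A →ₐ[k] Γ(X.left, ⊤)) => pointOf F.ofConv) hcomm.eq
    have hz' : (z ≫ CategoryTheory.inv t) ≫ specHom π = pointOf gm := by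
      rw [Category.assoc, ← hz]
      congr 1
      rw [IsIso.inv_comp_eq, ht]
    have h := congrArg (fun f => algHomOf f a) hz'
    rw [algHomOf_specHom, apply_eq_zero π hα1 ha, map_zero, algHomOf_pointOf] at h
    have h1 : derAlg φ' hφ' a = 0 := hjj (by rw [map_zero]; exact h.symm)
    refine hφa ?_
    have h2 := congrArg TrivSqZeroExt.snd h1
    rw [(derAlg_apply φ' hφ' a).2, TrivSqZeroExt.snd_zero] at h2
    change φ ((cj π a).coeff α) = 0 at h2
    rwa [ha, MonoidAlgebra.coeff_single, Finsupp.single_eq_same] at h2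
  -- transport the centraliser
  obtain ⟨AC, _, _, _, _, e, he⟩ := MaxTorusApply.exists_GA C
  haveI := he
  haveI : IsMonHom e.inv := inferInstance
  have hTC : AGF.IsMaxTorus t := ⟨inferInstance, inferInstance, hT.2.2.1, fun T' _ j _ _ f hT' hf =>
    hT.2.2.2 T' (j ≫ c) f hT' (by rw [← Category.assoc, hf, ht])⟩
  have hTC' := MaxTorusApply.isMaxTorus_comp e hTC
  have hredC := CentralizerRed.isReductiveOver_centralizer hG (specHom ω) hS c hc
  obtain ⟨n', hn', hn'T⟩ : ∃ n' : HopfPts.Pt k AC,
      (ptsOf (t ≫ e.hom)).map (MulAut.conj n').toMonoidHom = ptsOf (t ≫ e.hom) ∧ n' ∉ ptsOf (t ≫ e.hom) := by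
    by_contra hcon
    push Not at hcon
    haveI := isIso_of_normalizer_le (t ≫ e.hom) (Groth.Agent.H60.RedLR.isReductiveOver_congr e hCred) hTC' hcon
    exact hnot (IsIso.of_isIso_comp_right t e.hom)
  obtain ⟨n, hn⟩ := ptHom_surjective ((ptHom (𝟙_ _) n' ≫ e.inv) ≫ c)
  have hmapE : ∀ ν : HopfPts.Pt k AC, ∀ ν' : HopfPts.Pt k A, (ptHom (𝟙_ _) ν ≫ e.inv) ≫ c = ptHom _ ν' →
      (ν ∈ ptsOf (t ≫ e.hom) ↔ ν' ∈ ptsOf (specHom π)) := by
    intro ν ν' hνν'
    constructor
    · rintro ⟨x, hx⟩
      refine ⟨x, ?_⟩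
      show x ≫ specHom π = _
      rw [← hνν', ← show x ≫ t ≫ e.hom = ptHom (𝟙_ _) ν from hx]
      simp only [Category.assoc, Iso.hom_inv_id_assoc, ht]
    · rintro ⟨x, hx⟩
      refine ⟨x, ?_⟩
      show x ≫ t ≫ e.hom = ptHom (𝟙_ _) ν
      rw [← cancel_mono e.inv, ← cancel_mono c, hνν', ← show x ≫ specHom π = ptHom (𝟙_ _) ν' from hx]
      simp only [Category.assoc, Iso.hom_inv_id_assoc, ht]
  have hnorm : (ptsOf (specHom π)).map (MulAut.conj n).toMonoidHom = ptsOf (specHom π) := by
    have key : ∀ ν : HopfPts.Pt k AC, ∀ ν' : HopfPts.Pt k A, (ptHom (𝟙_ _) ν ≫ e.inv) ≫ c = ptHom _ ν' →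
        (ptHom (𝟙_ _) (n' * ν * n'⁻¹) ≫ e.inv) ≫ c = ptHom _ (n * ν' * n⁻¹) := by
      intro ν ν' h
      simp only [map_mul, map_inv, MonObj.mul_comp, GrpObj.inv_comp]
      rw [h, ← hn]
    refine SetLike.ext fun ν' => ⟨?_, fun hν' => ?_⟩
    · rintro ⟨τ, hτ, rfl⟩
      obtain ⟨x, hx⟩ := hτ
      obtain ⟨ν, hν⟩ := ptHom_surjective (x ≫ t ≫ e.hom)
      have h1 : (ptHom (𝟙_ _) ν ≫ e.inv) ≫ c = ptHom _ τ := by
        rw [hν, ← show x ≫ specHom π = ptHom (𝟙_ _) τ from hx]
        simp only [Category.assoc, Iso.hom_inv_id_assoc, ht]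
      refine (hmapE _ _ (key ν τ h1)).1 ?_
      rw [← hn']
      exact ⟨ν, ⟨x, hν.symm⟩, rfl⟩
    · obtain ⟨x, hx⟩ := hν'
      obtain ⟨ν, hν⟩ := ptHom_surjective (x ≫ t ≫ e.hom)
      have hνT : ν ∈ ptsOf (t ≫ e.hom) := ⟨x, hν.symm⟩
      rw [← hn'] at hνT
      obtain ⟨μ', hμ', hμν⟩ := hνT
      obtain ⟨τ, hτ⟩ := ptHom_surjective ((ptHom (𝟙_ _) μ' ≫ e.inv) ≫ c)
      refine ⟨τ, (hmapE _ _ hτ.symm).1 hμ', ptHom_injective ?_⟩
      show ptHom _ (n * τ * n⁻¹) = _
      rw [← key μ' τ hτ.symm, show n' * μ' * n'⁻¹ = ν from hμν, hν, ← show x ≫ specHom π = ptHom (𝟙_ _) ν' from hx]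
      simp only [Category.assoc, Iso.hom_inv_id_assoc, ht]
  have hnT : n ∉ ptsOf (specHom π) := fun h => hn'T ((hmapE n' n hn.symm).2 h)
  have hnC : n ∈ Subgroup.centralizer (ptsOf (specHom ω) : Set (HopfPts.Pt k A)) :=
    hptC ▸ ⟨ptHom (𝟙_ _) n' ≫ e.inv, hn.symm⟩
  obtain ⟨w, hw⟩ := exists_rel π hπ hnorm
  obtain ⟨w', hw'⟩ := exists_rel π hπ (n := n⁻¹) (by
    conv_lhs => rw [← hnorm, Subgroup.map_map]
    refine SetLike.ext fun x => ?_
    simp [_root_.mul_assoc])
  have hinj : Function.Injective w := by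
    have h1 : w'.comp w = MonoidHom.id _ := by
      refine (hw.mul π hw').unique π hπ ?_
      rw [mul_inv_cancel]
      exact rel_one π
    exact Function.LeftInverse.injective fun m => DFunLike.congr_fun h1 m
  refine ⟨n, w, hw, hinj, fun hid => hnT ?_, ?_⟩
  · have hself := CentralizerRed.isCentralizerOf_self hG hT
    obtain ⟨-, -, -, -, hpts⟩ := CentralizerScheme.props (specHom π) hT.2.2.1 (specHom π) hself
    rw [hpts, Subgroup.mem_centralizer_iff]
    intro τ hτ
    obtain ⟨χ, rfl⟩ := (mem_ptsOf_specHom π).1 hτ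
    have h := hw χ
    rw [hid, MonoidHom.comp_id, mul_inv_eq_iff_eq_mul] at h
    exact h.symm
  · refine MonoidHom.ext fun m => eq_of_chars (k := k) fun χ => ?_
    have hτ : pt π (χ.comp q) ∈ ptsOf (specHom ω) := by
      refine ⟨ptHom _ (toConv ((chi χ).comp (MonoidAlgebra.mapDomainAlgHom k k Q.subtype))), ?_⟩
      show _ ≫ specHom ω = _
      rw [ptHom_comp_specHom, ← pt_comp π q χ]
      congr 1
      refine ofConv_injective (AlgHom.ext fun a => ?_)
      show chi χ (MonoidAlgebra.mapDomain Q.subtype (MonoidAlgebra.mapDomain q.rangeRestrict (π a))) =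
        chi χ (MonoidAlgebra.mapDomain q (π a))
      generalize (π a : MonoidAlgebra k (Lat r)) = z
      induction z using MonoidAlgebra.induction_linear with
      | zero => simp
      | add x y hx hy => simp only [MonoidAlgebra.mapDomain_add, map_add, hx, hy]
      | single m c => simp
    have h := Subgroup.mem_centralizer_iff.1 hnC _ hτ
    have h2 := hw (χ.comp q)
    rw [← h, mul_inv_cancel_right] at h2
    exact (DFunLike.congr_fun (pt_injective π hπ h2) m).symm

end

end Groth.Agent.H66.Weyl
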