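import Groth.Agent.H66.LieWt.Weights
import Groth.Agent.H1.Classical.HopfPts
import Mathlib.LinearAlgebra.Dual.Lemmas
import Mathlib.RingTheory.Finiteness.Basic

/-!
Points of a split torus and weights, on rational points.
-/

set_option autoImplicit false

universe u

open TensorProduct WithConv Coalgebra
open Groth.Agent.H1.Classical.Words Groth.Agent.H1.Classical Groth.Agent.H66.LieWt

namespace Groth.Agent.H66.Weyl

set_option linter.style.haveILetI false
set_option linter.unusedSectionVars false

noncomputable section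

/-- The lattice. -/
abbrev Lat (r : ℕ) : Type := Multiplicative (Fin r → ℤ)

variable {k : Type u} [Field k] {r : ℕ}

/-- The point of the group algebra of a character. -/
def chi (χ : Lat r →* kˣ) : MonoidAlgebra k (Lat r) →ₐ[k] k :=
  MonoidAlgebra.lift k k (Lat r) ((Units.coeHom k).comp χ)

theorem chi_single (χ : Lat r →* kˣ) (m : Lat r) (c : k) :
    chi χ (MonoidAlgebra.single m c) = c * (χ m : k) := by
  simp [chi]

theorem chi_surjective : Function.Surjective (chi (k := k) (r := r)) := fun x => by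
  refine ⟨((x : MonoidAlgebra k (Lat r) →* k).comp (MonoidAlgebra.of k (Lat r))).toHomUnits, ?_⟩
  refine MonoidAlgebra.algHom_ext (fun m => ?_) (by ext)
  rw [chi_single, _root_.one_mul]
  rfl

/-- The character with prescribed values. -/
def charOf (u : Fin r → kˣ) : Lat r →* kˣ where
  toFun m := ∏ i, u i ^ (m.toAdd i)
  map_one' := by simp
  map_mul' m m' := by simp [zpow_add, Finset.prod_mul_distrib]

theorem charOf_single (u : Fin r → kˣ) (i : Fin r) (n : ℤ) :
    charOf u (Multiplicative.ofAdd (Pi.single i n)) = u i ^ n := by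
  classical
  show ∏ j, u j ^ ((Pi.single i n : Fin r → ℤ) j) = _
  rw [Finset.prod_eq_single i (fun j _ hj => by rw [Pi.single_eq_of_ne hj, zpow_zero]) (by simp), Pi.single_eq_same]

theorem hom_ext {N : Type*} [CommGroup N] {f g : Lat r →* N}
    (h : ∀ i, f (Multiplicative.ofAdd (Pi.single i 1)) = g (Multiplicative.ofAdd (Pi.single i 1))) : f = g := by
  classical
  refine MonoidHom.ext fun m => ?_
  have hm : m = ∏ i, (Multiplicative.ofAdd (Pi.single i (1 : ℤ)) : Lat r) ^ (m.toAdd i) := by
    apply Multiplicative.toAdd.injective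
    rw [toAdd_prod]
    simp only [toAdd_zpow, toAdd_ofAdd]
    funext j
    simp [Finset.sum_apply, Pi.single_apply]
  rw [hm, map_prod, map_prod]
  exact Finset.prod_congr rfl fun i _ => by rw [map_zpow, map_zpow, h i]

section Two

variable [CharZero k]

/-- A unit of infinite order. -/
def two : kˣ := Units.mk0 2 two_ne_zero

theorem two_zpow_injective : Function.Injective fun n : ℤ => (two : kˣ) ^ n := by
  intro a b hab
  have h : (2 : ℚ) ^ a = 2 ^ b := by
    apply (algebraMap ℚ k).injective
    rw [map_zpow₀, map_zpow₀, map_ofNat]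
    simpa [two] using congrArg Units.val hab
  exact zpow_right_injective₀ (by norm_num) (by norm_num) h

end Two

section Sep

variable [Infinite k]

theorem exists_zpow_ne_one {n : ℤ} (hn : n ≠ 0) : ∃ u : kˣ, u ^ n ≠ 1 := by
  classical
  obtain ⟨x, hx⟩ := Infinite.exists_notMem_finset
    (insert (0 : k) (Polynomial.nthRoots n.natAbs (1 : k)).toFinset)
  simp only [Finset.mem_insert, Multiset.mem_toFinset, not_or] at hx
  refine ⟨Units.mk0 x hx.1, fun h => hx.2 ?_⟩
  rw [Polynomial.mem_nthRoots (Int.natAbs_pos.2 hn)]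
  have h' : Units.mk0 x hx.1 ^ n.natAbs = 1 := pow_natAbs_eq_one.2 h
  simpa using congrArg Units.val h'

theorem exists_char_ne {m : Lat r} (hm : m ≠ 1) : ∃ χ : Lat r →* kˣ, χ m ≠ 1 := by
  classical
  obtain ⟨i, hi⟩ : ∃ i, m.toAdd i ≠ 0 := by
    by_contra h
    push Not at h
    exact hm (Multiplicative.toAdd.injective (funext h))
  obtain ⟨u, hu⟩ := exists_zpow_ne_one (k := k) hi
  refine ⟨charOf (Function.update 1 i u), fun h => hu ?_⟩
  change ∏ j, (Function.update (1 : Fin r → kˣ) i u j) ^ (m.toAdd j) = 1 at h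
  rwa [Finset.prod_eq_single i (fun j _ hj => by rw [Function.update_of_ne hj, Pi.one_apply, one_zpow]) (by simp),
    Function.update_self] at h

theorem eq_of_chars {a b : Lat r} (h : ∀ χ : Lat r →* kˣ, χ a = χ b) : a = b := by
  by_contra hne
  obtain ⟨χ, hχ⟩ := exists_char_ne (k := k) (m := a / b) (by rwa [ne_eq, div_eq_one])
  exact hχ (by rw [map_div, h, div_self'])

/-- Characters separate the group algebra. -/
theorem eq_zero_of_chars {y : MonoidAlgebra k (Lat r)} (h : ∀ χ, chi χ y = 0) : y = 0 := by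
  let f : Lat r → ((Lat r →* kˣ) →* k) := fun m =>
    (Units.coeHom k).comp { toFun := fun χ => χ m, map_one' := rfl, map_mul' := fun _ _ => rfl }
  have hf : Function.Injective f := fun a b hab =>
    eq_of_chars (k := k) fun χ => Units.ext (DFunLike.congr_fun hab χ)
  have hli := (linearIndependent_monoidHom (Lat r →* kˣ) k).comp f hf
  refine MonoidAlgebra.coeff_injective (linearIndependent_iff.1 hli y.coeff ?_)
  funext χ
  rw [Pi.zero_apply, ← h χ, Finsupp.linearCombination_apply, Finsupp.sum, Finset.sum_apply]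
  simp [chi, MonoidAlgebra.lift_apply, Finsupp.sum, f]

end Sep

variable {A : Type u} [CommRing A] [HopfAlgebra k A] (π : A →ₐc[k] MonoidAlgebra k (Lat r))

/-- The torus point of a character. -/
def pt : (Lat r →* kˣ) →* HopfPts.Pt k A :=
  MonoidHom.mk' (fun χ => toConv ((chi χ).comp π.toAlgHom)) fun χ χ' =>
    (pre_mul π (chi χ) (chi χ') (chi (χ * χ')) fun m => by simp [chi_single]).symm

theorem pt_apply (χ : Lat r →* kˣ) (a : A) : (pt π χ).ofConv a = chi χ (π a) := rfl

theorem pt_injective (hπ : Function.Surjective π) : Function.Injective (pt π) := fun χ χ' h => by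
  refine MonoidHom.ext fun m => Units.ext ?_
  obtain ⟨a, ha⟩ := hπ (MonoidAlgebra.single m 1)
  have h1 := congrArg (fun g : HopfPts.Pt k A => g.ofConv a) h
  simpa [pt_apply, ha, chi_single] using h1

theorem commute_pt (χ χ' : Lat r →* kˣ) : pt π χ * pt π χ' = pt π χ' * pt π χ := by
  exact ((map_mul (pt π) χ χ').symm.trans (congrArg _ (mul_comm χ χ'))).trans (map_mul (pt π) χ' χ)

/-- Evaluation at a character and a point. -/
def evF (χ : Lat r →* kˣ) (g : HopfPts.Pt k A) : MonoidAlgebra A (Lat r) →ₐ[k] k :=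
  MonoidAlgebra.liftNCAlgHom g.ofConv ((Units.coeHom k).comp χ) fun _ _ => Commute.all _ _

theorem evF_single (χ : Lat r →* kˣ) (g : HopfPts.Pt k A) (m : Lat r) (b : A) :
    evF χ g (MonoidAlgebra.single m b) = g.ofConv b * (χ m : k) := by
  simp [evF, MonoidAlgebra.liftNCAlgHom, MonoidAlgebra.liftNCRingHom]

theorem evF_cj (χ : Lat r →* kˣ) (g : HopfPts.Pt k A) (a : A) :
    evF χ g (cj π a) = (pt π χ * g * (pt π χ)⁻¹).ofConv a := by
  have hg : push (evF χ g) (toConv (incl A (Lat r))) = g := by
    refine ofConv_injective (AlgHom.ext fun x => ?_)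
    show evF χ g (MonoidAlgebra.single 1 x) = g.ofConv x
    rw [evF_single, map_one, Units.val_one, _root_.mul_one]
  have ht : push (evF χ g) (toConv (tor π)) = pt π χ := by
    refine ofConv_injective (AlgHom.ext fun x => ?_)
    show evF χ g (iota (π x)) = chi χ (π x)
    generalize (π x : MonoidAlgebra k (Lat r)) = z
    induction z using MonoidAlgebra.induction_linear with
    | zero => simp
    | add x y hx hy => simp only [map_add, hx, hy]
    | single m c => rw [iota_single, evF_single, AlgHom.commutes, chi_single]; rfl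
  have h : push (evF χ g) (toConv (cj π)) = pt π χ * g * (pt π χ)⁻¹ := by
    rw [show toConv (cj π) = toConv (tor π) * toConv (incl A (Lat r)) * (toConv (tor π))⁻¹ from rfl, map_mul, map_mul,
      map_inv, hg, ht]
  exact congrArg (fun q : HopfPts.Pt k A => q.ofConv a) h

variable [IsAlgClosed k] [IsReduced A] [Algebra.FiniteType k A]

theorem eq_zero_of_evF {y : MonoidAlgebra A (Lat r)} (h : ∀ (χ : Lat r →* kˣ) (g : HopfPts.Pt k A), evF χ g y = 0) : y = 0 := by
  refine MonoidAlgebra.coeff_injective (Finsupp.ext fun m => ?_)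
  refine HopfPts.ev_injective k A (funext fun g => ?_)
  let z : MonoidAlgebra k (Lat r) := MonoidAlgebra.ofCoeff (Finsupp.mapRange (fun b => g.ofConv b) (map_zero g.ofConv) y.coeff)
  have key : ∀ (χ : Lat r →* kˣ) (w : MonoidAlgebra A (Lat r)), evF χ g w =
      chi χ (MonoidAlgebra.ofCoeff (Finsupp.mapRange (fun b => g.ofConv b) (map_zero g.ofConv) w.coeff)) := by
    intro χ w
    induction w using MonoidAlgebra.induction_linear with
    | zero => simp
    | add p q hp hq =>
      rw [map_add, hp, hq, ← map_add, MonoidAlgebra.coeff_add, Finsupp.mapRange_add (fun x y => map_add _ x y)]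
      rfl
    | single m b =>
      rw [evF_single, MonoidAlgebra.coeff_single, Finsupp.mapRange_single, MonoidAlgebra.ofCoeff_single, chi_single]
  have hz := eq_zero_of_chars (y := z) fun χ => by rw [← key χ y, h]
  have h1 := congrArg (fun q : MonoidAlgebra k (Lat r) => q.coeff m) hz
  simp [z] at h1
  show g.ofConv (y.coeff m) = g.ofConv _
  simpa using h1

/-- Homogeneity read on points. -/
theorem homog_iff {v : Lat r} {a : A} :
    Homog π v a ↔ ∀ χ g, (pt π χ * g * (pt π χ)⁻¹).ofConv a = g.ofConv a * (χ v : k) := by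
  refine ⟨fun h χ g => by rw [← evF_cj, h, evF_single], fun h => sub_eq_zero.1 (eq_zero_of_evF (k := k) fun χ g => ?_)⟩
  rw [map_sub, evF_cj, evF_single, h, sub_self]

/-- A homogeneous element of non-zero weight vanishes on the torus. -/
theorem apply_eq_zero {v : Lat r} {a : A} (hv : v ≠ 1) (ha : Homog π v a) : π a = 0 := by
  refine eq_zero_of_chars fun χ => ?_
  obtain ⟨χ', hχ'⟩ := exists_char_ne (k := k) hv
  have h := (homog_iff π).1 ha χ' (pt π χ)
  rw [commute_pt, mul_inv_cancel_right, pt_apply] at h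
  have h1 : chi χ (π a) * ((χ' v : k) - 1) = 0 := by rw [mul_sub, ← h, _root_.mul_one, sub_self]
  exact (mul_eq_zero.1 h1).resolve_right (sub_ne_zero.2 fun h => hχ' (Units.ext h))

/-- An element acting on the characters by an endomorphism of the lattice. -/
def Rel (n : HopfPts.Pt k A) (w : Lat r →* Lat r) : Prop :=
  ∀ χ : Lat r →* kˣ, n * pt π χ * n⁻¹ = pt π (χ.comp w)

theorem rel_one : Rel π 1 (MonoidHom.id _) := fun χ => by simp

theorem Rel.mul {n n' : HopfPts.Pt k A} {w w' : Lat r →* Lat r} (h : Rel π n w) (h' : Rel π n' w') :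
    Rel π (n * n') (w'.comp w) := fun χ => by
  calc n * n' * pt π χ * (n * n')⁻¹ = n * (n' * pt π χ * n'⁻¹) * n⁻¹ := by group
    _ = _ := by rw [h', h, MonoidHom.comp_assoc]

theorem Rel.unique (hπ : Function.Surjective π) {n : HopfPts.Pt k A} {w w' : Lat r →* Lat r} (h : Rel π n w)
    (h' : Rel π n w') : w = w' :=
  MonoidHom.ext fun m => eq_of_chars (k := k) fun χ => DFunLike.congr_fun (pt_injective π hπ ((h χ).symm.trans (h' χ))) m

/-- Conjugation by a point. -/
def th (n : HopfPts.Pt k A) : A →ₐ[k] A :=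
  (toConv ((Algebra.ofId k A).comp n.ofConv) * toConv (AlgHom.id k A) *
    (toConv ((Algebra.ofId k A).comp n.ofConv))⁻¹).ofConv

theorem apply_th (n g : HopfPts.Pt k A) (a : A) : g.ofConv (th n a) = (n * g * n⁻¹).ofConv a := by
  have h1 : push g.ofConv (toConv ((Algebra.ofId k A).comp n.ofConv)) = n :=
    ofConv_injective (AlgHom.ext fun x => g.ofConv.commutes _)
  have h2 : push g.ofConv (toConv (AlgHom.id k A)) = g := rfl
  have h : push g.ofConv (toConv (th n)) = n * g * n⁻¹ := by
    show push g.ofConv (toConv ((Algebra.ofId k A).comp n.ofConv) * toConv (AlgHom.id k A) *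
      (toConv ((Algebra.ofId k A).comp n.ofConv))⁻¹) = _
    rw [map_mul, map_mul, map_inv, h1, h2]
  exact congrArg (fun q : HopfPts.Pt k A => q.ofConv a) h

theorem th_th (n : HopfPts.Pt k A) (a : A) : th n⁻¹ (th n a) = a := by
  refine HopfPts.ev_injective k A (funext fun g => ?_)
  show g.ofConv (th n⁻¹ (th n a)) = g.ofConv a
  rw [apply_th, apply_th, show n * (n⁻¹ * g * n⁻¹⁻¹) * n⁻¹ = g by group]

theorem th_mem_aug0 (n : HopfPts.Pt k A) {a : A} (ha : a ∈ aug0 (k := k)) : th n a ∈ aug0 (k := k) := by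
  have h : ∀ x : A, counit (R := k) x = (1 : HopfPts.Pt k A).ofConv x := fun x => by simp
  show counit (R := k) (th n a) = 0
  rw [h, apply_th, _root_.mul_one, mul_inv_cancel, ← h]
  exact ha

theorem th_mem_sq (n : HopfPts.Pt k A) {a : A} (ha : a ∈ (aug0 (k := k) (A := A)) ^ 2) :
    th n a ∈ (aug0 (k := k) (A := A)) ^ 2 := by
  have h := Ideal.mem_map_of_mem (th n) ha
  rw [Ideal.map_pow] at h
  refine Ideal.pow_right_mono ?_ 2 h
  rw [Ideal.map_le_iff_le_comap]
  exact fun x hx => th_mem_aug0 n hx

/-- The weights on the cotangent space. -/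
def Roots : Set (Lat r) :=
  {v | v ≠ 1 ∧ ∃ a, Homog π v a ∧ a ∈ aug0 (k := k) ∧ a ∉ (aug0 (k := k) (A := A)) ^ 2}

/-- The weights are permuted by the normaliser. -/
theorem Rel.mapsTo {n : HopfPts.Pt k A} {w : Lat r →* Lat r} (h : Rel π n w) (hw : Function.Injective w) :
    Set.MapsTo w (Roots π) (Roots π) := by
  rintro v ⟨hv, a, ha, ham, ha2⟩
  refine ⟨fun h1 => hv (hw (by rw [h1, map_one])), th n a, (homog_iff π).2 fun χ g => ?_, th_mem_aug0 n ham,
    fun h2 => ha2 ?_⟩
  · rw [apply_th, apply_th, show n * (pt π χ * g * (pt π χ)⁻¹) * n⁻¹ =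
      (n * pt π χ * n⁻¹) * (n * g * n⁻¹) * (n * pt π χ * n⁻¹)⁻¹ by group, h χ, (homog_iff π).1 ha]
    rfl
  · rw [← th_th n a]
    exact th_mem_sq n⁻¹ h2

end

end Groth.Agent.H66.Weyl
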