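import Groth.Agent.H66.Weyl.Roots
import Groth.Agent.H66.LieWt.RootExists
import Groth.Agent.H1.Classical.Torus.WeylFinite
import Groth.Agent.H1.Classical.TorusPts

/-!
The opposite of a root is a root.
-/

set_option autoImplicit false

universe u

open CategoryTheory MonoidalCategory CartesianMonoidalCategory MonObj GrpObj AlgebraicGeometry

namespace Groth.Agent.H66.Weyl

set_option linter.style.haveILetI false
set_option linter.unusedSectionVars false

open Groth.Agent.H1.Classical Groth.Agent.Lib.RedPts Groth.Agent.Lib.RedPts.Points Scheme' WithConv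
  Groth.Agent.H1.Classical.Words Groth.Agent.H66.LieWt

attribute [local instance] baseAlgebra

noncomputable section

variable {k : Type u} [Field k] [IsAlgClosed k] {A : Type u} [CommRing A] [HopfAlgebra k A]
  [Algebra.FiniteType k A] [IsDomain A] {r : ℕ} (π : A →ₐc[k] MonoidAlgebra k (Lat r))

/-- The iterates of an endomorphism. -/
def wpow (w : Lat r →* Lat r) : ℕ → (Lat r →* Lat r)
  | 0 => MonoidHom.id _
  | n + 1 => w.comp (wpow w n)

theorem wpow_apply (w : Lat r →* Lat r) (n : ℕ) (m : Lat r) : wpow w n m = (⇑w)^[n] m := by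
  induction n with
  | zero => rfl
  | succ n ih => rw [Function.iterate_succ_apply', ← ih]; rfl

theorem rel_pow {n : HopfPts.Pt k A} {w : Lat r →* Lat r} (h : Rel π n w) (j : ℕ) : Rel π (n ^ j) (wpow w j) := by
  induction j with
  | zero => rw [pow_zero]; exact rel_one π
  | succ j ih => rw [pow_succ]; exact ih.mul π h

/-- Elements of the normaliser act through elements of finite order. -/
theorem exists_iterate_eq (hπ : Function.Surjective π) (hS : Red.IsTorus (GA k (MonoidAlgebra k (Lat r))))
    {n : HopfPts.Pt k A} {w : Lat r →* Lat r} (h : Rel π n w) (hw : Function.Injective w) :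
    ∃ N, N ≠ 0 ∧ ∀ m, (⇑w)^[N] m = m := by
  classical
  haveI := isClosedImmersion_specHom π hπ
  haveI : Mono (specHom π) := Over.mono_of_mono_left _
  have hTor := TorusPts.isTor_ptsOf (specHom π) hS
  obtain ⟨W, _, σ, hσ⟩ := Torus.GenRep.exists_gen (HopfPts.D k A) hasMul_pts pts_ext
  have hfin := Torus.WeylFinite.finite_actions hσ hTor
  let φ : ℕ → (ptsOf (specHom π) → HopfPts.Pt k A) := fun j t => n ^ j * t * (n ^ j)⁻¹
  have hmem : Set.range φ ⊆ {ψ : ptsOf (specHom π) → HopfPts.Pt k A | ∃ m : HopfPts.Pt k A,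
      (∀ t ∈ ptsOf (specHom π), m * t * m⁻¹ ∈ ptsOf (specHom π)) ∧ ψ = fun t : ptsOf (specHom π) => m * t * m⁻¹} := by
    rintro _ ⟨j, rfl⟩
    refine ⟨n ^ j, fun t ht => ?_, rfl⟩
    obtain ⟨χ, rfl⟩ := (mem_ptsOf_specHom π).1 ht
    rw [rel_pow π h j χ]
    exact (mem_ptsOf_specHom π).2 ⟨_, rfl⟩
  obtain ⟨i, -, j, -, hij, hφ⟩ := Set.infinite_univ.exists_ne_map_eq_of_mapsTo (f := φ)
    (fun j _ => hmem ⟨j, rfl⟩) hfin
  have key : wpow w i = wpow w j := MonoidHom.ext fun m => eq_of_chars (k := k) fun χ => by
    have h1 := congrFun hφ ⟨pt π χ, (mem_ptsOf_specHom π).2 ⟨χ, rfl⟩⟩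
    change n ^ i * pt π χ * (n ^ i)⁻¹ = n ^ j * pt π χ * (n ^ j)⁻¹ at h1
    rw [rel_pow π h i χ, rel_pow π h j χ] at h1
    exact DFunLike.congr_fun (pt_injective π hπ h1) m
  have main : ∀ a b : ℕ, a < b → wpow w a = wpow w b → ∀ m, (⇑w)^[b - a] m = m := fun a b hab he m => by
    refine (hw.iterate a) ?_
    rw [← Function.iterate_add_apply, Nat.add_sub_cancel' hab.le, ← wpow_apply, ← wpow_apply, he]
  rcases lt_or_gt_of_ne hij with hlt | hlt
  · exact ⟨j - i, Nat.sub_ne_zero_of_lt hlt, main i j hlt key⟩
  · exact ⟨i - j, Nat.sub_ne_zero_of_lt hlt, main j i hlt key.symm⟩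

/-- An endomorphism of finite order preserving the wedge with a vector negates it or is the identity. -/
theorem neg_or_id (f : (Fin r → ℤ) →+ (Fin r → ℤ)) {a : Fin r → ℤ} (ha : a ≠ 0) {N : ℕ} (hN : N ≠ 0)
    (hf : ∀ x, (⇑f)^[N] x = x) (hwedge : ∀ x i j, a i * f x j - a j * f x i = a i * x j - a j * x i) :
    f a = -a ∨ ∀ x, f x = x := by
  obtain ⟨i, hi⟩ := Function.ne_iff.1 ha
  change a i ≠ 0 at hi
  have h1 : a i • f a = f a i • a := funext fun j => by
    have := hwedge a i j
    simp only [Pi.smul_apply, smul_eq_mul]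
    linarith [mul_comm (a j) (f a i)]
  have hpow : ∀ n, a i ^ n • (⇑f)^[n] a = f a i ^ n • a := by
    intro n
    induction n with
    | zero => simp
    | succ n ih =>
      rw [Function.iterate_succ_apply', pow_succ', ← smul_smul, ← map_zsmul, ih, map_zsmul, smul_comm, h1, smul_smul,
        ← pow_succ]
  have hc : a i ^ N = f a i ^ N := by
    have := congrFun (hpow N) i
    rw [hf] at this
    simp only [Pi.smul_apply, smul_eq_mul] at this
    exact mul_right_cancel₀ hi this
  have habs : |a i| = |f a i| := by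
    refine (pow_left_inj₀ (abs_nonneg _) (abs_nonneg _) hN).1 ?_
    rw [pow_abs, pow_abs, hc]
  rcases abs_eq_abs.1 habs with heq | heq
  · right
    intro x
    have hfix : f a = a := smul_right_injective _ hi (by show a i • f a = a i • a; rw [h1, ← heq])
    let t := f x i - x i
    have hx : a i • f x = a i • x + t • a := funext fun j => by
      have := hwedge x i j
      simp only [Pi.smul_apply, Pi.add_apply, smul_eq_mul, t]
      linarith [mul_comm (a j) (f x i), mul_comm (a j) (x i), sub_mul (f x i) (x i) (a j)]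
    have hit : ∀ n, a i • (⇑f)^[n] x = a i • x + ((n : ℤ) * t) • a := by
      intro n
      induction n with
      | zero => simp
      | succ n ih =>
        rw [Function.iterate_succ_apply', ← map_zsmul, ih, map_add, map_zsmul, map_zsmul, hfix, hx, add_assoc,
          ← add_smul]
        congr 2
        push_cast
        ring
    have h0 := congrFun (hit N) i
    rw [hf] at h0
    simp only [Pi.smul_apply, Pi.add_apply, smul_eq_mul] at h0
    have ht : t = 0 := by
      have : (N : ℤ) * t * a i = 0 := by linarith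
      rcases mul_eq_zero.1 this with h | h
      · exact (mul_eq_zero.1 h).resolve_left (by exact_mod_cast hN)
      · exact absurd h hi
    rw [ht, zero_smul, add_zero] at hx
    exact smul_right_injective _ hi hx
  · left
    refine smul_right_injective _ hi ?_
    show a i • f a = a i • -a
    rw [h1, heq, neg_smul, smul_neg, neg_neg]

/-- The opposite of a root is a root. -/
theorem inv_mem_roots (hG : Red.IsReductiveOver k (GA k A)) (hπ : Function.Surjective π)
    (hT : AGF.IsMaxTorus (specHom π)) {α : Lat r} (hα : α ∈ Roots π) : α⁻¹ ∈ Roots π := by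
  classical
  let q : Lat r →* Lat (r * r) :=
    { toFun := fun m => Multiplicative.ofAdd fun p =>
        α.toAdd (finProdFinEquiv.symm p).1 * m.toAdd (finProdFinEquiv.symm p).2 -
          α.toAdd (finProdFinEquiv.symm p).2 * m.toAdd (finProdFinEquiv.symm p).1
      map_one' := by simp; rfl
      map_mul' := fun a b => by
        rw [← ofAdd_add]
        congr 1
        funext p
        simp [mul_add]
        ring }
  obtain ⟨n, w, hw, hinj, hne, hqw⟩ := exists_reflection π hG hπ hT hα q (by
    refine Multiplicative.toAdd.injective (funext fun p => ?_)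
    show _ - _ = (0 : ℤ)
    ring)
  obtain ⟨N, hN, hwN⟩ := exists_iterate_eq π hπ hT.2.2.1 hw hinj
  let f : (Fin r → ℤ) →+ (Fin r → ℤ) :=
    AddMonoidHom.mk' (fun x => (w (Multiplicative.ofAdd x)).toAdd) fun x y => by simp
  have hfi : ∀ n x, (⇑f)^[n] x = ((⇑w)^[n] (Multiplicative.ofAdd x)).toAdd := by
    intro n
    induction n with
    | zero => intro x; rfl
    | succ n ih =>
      intro x
      rw [Function.iterate_succ_apply', ih, Function.iterate_succ_apply']
      rfl
  rcases neg_or_id f (a := α.toAdd) (fun h => hα.1 (Multiplicative.toAdd.injective h)) hN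
    (fun x => by rw [hfi, hwN]; rfl) (fun x i j => by
      have h := congrArg (fun z : Lat (r * r) => z.toAdd (finProdFinEquiv (i, j)))
        (DFunLike.congr_fun hqw (Multiplicative.ofAdd x))
      simp only [q, MonoidHom.comp_apply, MonoidHom.coe_mk, OneHom.coe_mk, toAdd_ofAdd, Equiv.symm_apply_apply] at h
      exact h) with h | h
  · have h' : w α = α⁻¹ := Multiplicative.toAdd.injective h
    rw [← h']
    exact hw.mapsTo π hinj hα
  · exact absurd (MonoidHom.ext fun m => Multiplicative.toAdd.injective (h m.toAdd)) hne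

end

end Groth.Agent.H66.Weyl
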