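import Mathlib.LinearAlgebra.Dimension.Finrank
import Mathlib.LinearAlgebra.LinearIndependent.Lemmas
import Mathlib.LinearAlgebra.Span.Basic
import Mathlib.Data.Fintype.Perm
import Mathlib.Data.Rat.Defs
import Mathlib.Algebra.Order.BigOperators.Ring.Finset
import Mathlib.Tactic

/-!
Products of reflections along independent vectors preserving a finite spanning set have no fixed vectors.
-/

namespace Groth.Agent.H66.Weyl

variable {ι : Type*} [Fintype ι]

/-- The group of linear automorphisms preserving a set. -/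
def presGrp (Φ : Set (ι → ℚ)) : Subgroup ((ι → ℚ) ≃ₗ[ℚ] (ι → ℚ)) where
  carrier := {g | ∀ x, x ∈ Φ ↔ g x ∈ Φ}
  one_mem' _ := Iff.rfl
  mul_mem' {a b} ha hb x := (hb x).trans (ha (b x))
  inv_mem' {a} ha x := by
    conv_rhs => rw [ha]
    show x ∈ Φ ↔ a (a.symm x) ∈ Φ
    rw [a.apply_symm_apply]

theorem finite_presGrp {Φ : Set (ι → ℚ)} (hΦ : Φ.Finite) (hspan : Submodule.span ℚ Φ = ⊤) :
    Finite (presGrp Φ) := by
  haveI := hΦ.to_subtype
  refine Finite.of_injective (fun g : presGrp Φ => fun x : Φ => (⟨g.1 x, (g.2 x).1 x.2⟩ : Φ)) fun g h e => ?_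
  refine Subtype.ext (LinearEquiv.toLinearMap_injective (LinearMap.ext_on hspan fun x hx => ?_))
  exact congrArg Subtype.val (congrFun e ⟨x, hx⟩)

/-- The list of values of the factors at a fixed vector of the product. -/
theorem forall_fixed_of_prod_fixed :
    ∀ (L : List (((ι → ℚ) ≃ₗ[ℚ] (ι → ℚ)) × (ι → ℚ))),
      (∀ p ∈ L, ∀ x, ∃ c : ℚ, p.1 x - x = c • p.2) →
      LinearIndependent ℚ (fun i : Fin L.length => (L.get i).2) →
      ∀ v, (L.map Prod.fst).prod v = v → ∀ p ∈ L, p.1 v = v
  | [], _, _, _, _, p, hp => absurd hp (List.not_mem_nil)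
  | (s, α) :: L, hL, hind, v, hv, p, hp => by
    have hcons : ((⟨s, α⟩ :: L).map Prod.fst).prod v = s ((L.map Prod.fst).prod v) := by simp
    rw [hcons] at hv
    set y := (L.map Prod.fst).prod v with hy
    have hind' : LinearIndependent ℚ (fun i : Fin L.length => (L.get i).2) := by
      have := hind.comp Fin.succ (Fin.succ_injective _)
      simpa [Function.comp_def] using this
    have hnot : α ∉ Submodule.span ℚ (Set.range fun i : Fin L.length => (L.get i).2) := by
      intro h
      have h2 := hind.notMem_span_image (s := Set.range Fin.succ) (x := (0 : Fin (L.length + 1)))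
        (by simp [Fin.succ_ne_zero])
      exact h2 (Submodule.span_mono (by
        rintro _ ⟨i, rfl⟩
        exact ⟨i.succ, ⟨i, rfl⟩, rfl⟩) h)
    have hdiff : ∀ (L' : List (((ι → ℚ) ≃ₗ[ℚ] (ι → ℚ)) × (ι → ℚ))), (∀ q ∈ L', q ∈ L) → ∀ w,
        (L'.map Prod.fst).prod w - w ∈ Submodule.span ℚ (Set.range fun i : Fin L.length => (L.get i).2) := by
      intro L'
      induction L' with
      | nil => intro _ w; simp
      | cons q L' ih =>
        intro hsub w
        rw [List.map_cons, List.prod_cons, LinearEquiv.mul_apply]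
        obtain ⟨c, hc⟩ := hL q (List.mem_cons_of_mem _ (hsub q (List.mem_cons_self))) ((L'.map Prod.fst).prod w)
        rw [show q.1 ((L'.map Prod.fst).prod w) - w =
          (q.1 ((L'.map Prod.fst).prod w) - (L'.map Prod.fst).prod w) + ((L'.map Prod.fst).prod w - w) by abel, hc]
        refine add_mem (Submodule.smul_mem _ _ (Submodule.subset_span ?_))
          (ih (fun q' hq' => hsub q' (List.mem_cons_of_mem _ hq')) w)
        obtain ⟨i, hi⟩ := List.get_of_mem (hsub q (List.mem_cons_self))
        exact ⟨i, by simp only; rw [hi]⟩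
    obtain ⟨c, hc⟩ := hL _ (List.mem_cons_self) y
    have hd := hdiff L (fun _ h => h) v
    rw [← hy] at hd
    have hyv : y - v = -(c • α) := by
      simp only at hc
      rw [hv] at hc
      rw [← hc]
      abel
    have hc0 : c = 0 := by
      by_contra hne
      refine hnot ?_
      have : c • α ∈ Submodule.span ℚ (Set.range fun i : Fin L.length => (L.get i).2) := by
        rw [← neg_neg (c • α), ← hyv]
        exact neg_mem hd
      exact (Submodule.smul_mem_iff _ hne).1 this
    rw [hc0, zero_smul, neg_zero, sub_eq_zero] at hyv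
    rcases List.mem_cons.1 hp with rfl | hp
    · rw [hyv] at hv
      exact hv
    · exact forall_fixed_of_prod_fixed L (fun q hq => hL q (List.mem_cons_of_mem _ hq)) hind' v hyv p hp

/-- Reflections in a finite group along vectors spanning the space have no common fixed vector. -/
theorem eq_zero_of_fixed {G : Subgroup ((ι → ℚ) ≃ₗ[ℚ] (ι → ℚ))} [Finite G] {κ : Type*}
    (s : κ → ((ι → ℚ) ≃ₗ[ℚ] (ι → ℚ))) (hs : ∀ i, s i ∈ G) (α : κ → ι → ℚ) (hne : ∀ i, s i ≠ 1)
    (hrefl : ∀ i x, ∃ c : ℚ, s i x - x = c • α i) (hspan : Submodule.span ℚ (Set.range α) = ⊤)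
    (v : ι → ℚ) (hv : ∀ i, s i v = v) : v = 0 := by
  haveI := Fintype.ofFinite G
  let B : (ι → ℚ) → (ι → ℚ) → ℚ := fun x y => ∑ g : G, ∑ j, g.1 x j * g.1 y j
  have hinv : ∀ (h : G) x y, B (h.1 x) (h.1 y) = B x y := fun h x y =>
    Fintype.sum_equiv (Equiv.mulRight h) _ _ fun g => by simp
  have hsub : ∀ x y z, B x (y - z) = B x y - B x z := fun x y z => by
    simp [B, mul_sub, Finset.sum_sub_distrib]
  have hsmul : ∀ (x y : ι → ℚ) (c : ℚ), B x (c • y) = c * B x y := fun x y c => by
    simp [B, Finset.mul_sum, mul_left_comm]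
  have hadd : ∀ x y z, B x (y + z) = B x y + B x z := fun x y z => by
    simp [B, mul_add, Finset.sum_add_distrib]
  have hα : ∀ i, B v (α i) = 0 := by
    intro i
    obtain ⟨x, hx⟩ : ∃ x, s i x ≠ x := by
      by_contra hcon
      push Not at hcon
      exact hne i (LinearEquiv.ext hcon)
    obtain ⟨c, hc⟩ := hrefl i x
    have hc0 : c ≠ 0 := fun h => hx (by rw [h, zero_smul, sub_eq_zero] at hc; exact hc)
    have h1 := hinv ⟨s i, hs i⟩ v x
    simp only [hv] at h1
    have h2 : c * B v (α i) = 0 := by rw [← hsmul, ← hc, hsub, h1, sub_self]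
    exact (mul_eq_zero.1 h2).resolve_left hc0
  have hall : ∀ y, B v y = 0 := by
    intro y
    have hy : y ∈ Submodule.span ℚ (Set.range α) := hspan ▸ Submodule.mem_top
    induction hy using Submodule.span_induction with
    | mem z hz => obtain ⟨i, rfl⟩ := hz; exact hα i
    | zero => simp [B]
    | add a b _ _ ha hb => rw [hadd, ha, hb, add_zero]
    | smul c a _ ha => rw [hsmul, ha, mul_zero]
  have h0 := hall v
  have hnn : ∀ g : G, 0 ≤ ∑ j, g.1 v j * g.1 v j := fun g => Finset.sum_nonneg fun j _ => mul_self_nonneg _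
  have h1 := (Finset.sum_eq_zero_iff_of_nonneg (fun g _ => hnn g)).1 h0 1 (Finset.mem_univ _)
  funext j
  have h2 := (Finset.sum_eq_zero_iff_of_nonneg (fun j _ => mul_self_nonneg _)).1 h1 j (Finset.mem_univ _)
  simpa using h2

/-- A product of reflections along a basis in a finite group has no fixed vector. -/
theorem eq_zero_of_prod_fixed {G : Subgroup ((ι → ℚ) ≃ₗ[ℚ] (ι → ℚ))} [Finite G]
    (L : List (((ι → ℚ) ≃ₗ[ℚ] (ι → ℚ)) × (ι → ℚ))) (hG : ∀ p ∈ L, p.1 ∈ G) (hne : ∀ p ∈ L, p.1 ≠ 1)
    (hrefl : ∀ p ∈ L, ∀ x, ∃ c : ℚ, p.1 x - x = c • p.2)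
    (hind : LinearIndependent ℚ (fun i : Fin L.length => (L.get i).2))
    (hspan : Submodule.span ℚ (Set.range fun i : Fin L.length => (L.get i).2) = ⊤)
    (v : ι → ℚ) (hv : (L.map Prod.fst).prod v = v) : v = 0 :=
  eq_zero_of_fixed (G := G) (fun i : Fin L.length => (L.get i).1) (fun i => hG _ (List.get_mem L i))
    (fun i => (L.get i).2) (fun i => hne _ (List.get_mem L i)) (fun i => hrefl _ (List.get_mem L i)) hspan v
    fun i => forall_fixed_of_prod_fixed L hrefl hind v hv _ (List.get_mem L i)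

end Groth.Agent.H66.Weyl
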