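import Groth.Agent.H66.Weyl.Roots
import Groth.Agent.H66.Weyl.Reflection

/-!
A Coxeter element of the Weyl group: central elements are commutators of elements of finite order.
-/

set_option autoImplicit false

universe u

open CategoryTheory MonoidalCategory CartesianMonoidalCategory MonObj GrpObj AlgebraicGeometry

namespace Groth.Agent.H66.Weyl

set_option linter.style.haveILetI false
set_option linter.unusedSectionVars false

open Groth.Agent.H1.Classical Groth.Agent.Lib.RedPts Groth.Agent.Lib.RedPts.Points Scheme' WithConv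
  Groth.Agent.H1.Classical.Words Groth.Agent.H66.LieWt

attribute [local instance] baseAlgebra

noncomputable section

variable {r : ℕ}

/-- The rational vector of a lattice point. -/
def iq (m : Lat r) : Fin r → ℚ := fun i => ((m.toAdd i : ℤ) : ℚ)

theorem iq_injective : Function.Injective (iq (r := r)) := fun _ _ h =>
  Multiplicative.toAdd.injective (funext fun i => Int.cast_injective (congrFun h i))

theorem iq_mul (a b : Lat r) : iq (a * b) = iq a + iq b := by ext i; simp [iq]

theorem iq_pow (a : Lat r) (n : ℕ) : iq (a ^ n) = (n : ℚ) • iq a := by ext i; simp [iq]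

theorem iq_div (a b : Lat r) : iq (a / b) = iq a - iq b := by ext i; simp [iq]

theorem iq_one : iq (1 : Lat r) = 0 := by ext i; simp [iq]

/-- The unit vector. -/
def unit (i : Fin r) : Lat r := Multiplicative.ofAdd (Pi.single i 1)

theorem iq_unit (i : Fin r) : iq (unit i) = Pi.basisFun ℚ (Fin r) i := by
  ext j
  simp [iq, unit, Pi.single_apply]

theorem prod_unit (m : Lat r) : ∏ i, (unit i) ^ (m.toAdd i) = m := by
  apply Multiplicative.toAdd.injective
  rw [toAdd_prod]
  simp only [toAdd_zpow, unit, toAdd_ofAdd]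
  funext j
  simp [Finset.sum_apply, Pi.single_apply]

/-- The linear map of an endomorphism of the lattice. -/
def ext' (w : Lat r →* Lat r) : (Fin r → ℚ) →ₗ[ℚ] (Fin r → ℚ) :=
  (Pi.basisFun ℚ (Fin r)).constr ℚ fun i => iq (w (unit i))

theorem ext_iq (w : Lat r →* Lat r) (m : Lat r) : ext' w (iq m) = iq (w m) := by
  let f : Lat r →* Multiplicative (Fin r → ℚ) :=
    { toFun := fun m => Multiplicative.ofAdd (ext' w (iq m))
      map_one' := by rw [iq_one, map_zero, ofAdd_zero]
      map_mul' := fun a b => by rw [iq_mul, map_add, ofAdd_add] }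
  let g : Lat r →* Multiplicative (Fin r → ℚ) :=
    { toFun := fun m => Multiplicative.ofAdd (iq (w m))
      map_one' := by rw [map_one, iq_one, ofAdd_zero]
      map_mul' := fun a b => by rw [map_mul, iq_mul, ofAdd_add] }
  have h : f = g := hom_ext fun i => by
    show Multiplicative.ofAdd (ext' w (iq (unit i))) = Multiplicative.ofAdd (iq (w (unit i)))
    rw [iq_unit, ext', Module.Basis.constr_basis]
  exact Multiplicative.ofAdd.injective (DFunLike.congr_fun h m)

theorem linear_ext {f g : (Fin r → ℚ) →ₗ[ℚ] (Fin r → ℚ)} (h : ∀ m, f (iq m) = g (iq m)) : f = g :=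
  (Pi.basisFun ℚ (Fin r)).ext fun i => by rw [← iq_unit]; exact h _

theorem exists_den {α : Type*} [Fintype α] (a : α → ℚ) :
    ∃ N : ℕ, N ≠ 0 ∧ ∀ i, ∃ z : ℤ, (z : ℚ) = N * a i := by
  classical
  refine ⟨∏ i, (a i).den, Finset.prod_ne_zero_iff.2 fun i _ => (a i).den_nz, fun i =>
    ⟨(a i).num * ((∏ j ∈ Finset.univ.erase i, (a j).den : ℕ) : ℤ), ?_⟩⟩
  rw [← Finset.mul_prod_erase Finset.univ (fun j => (a j).den) (Finset.mem_univ i)]
  push_cast
  rw [← Rat.mul_den_eq_num]
  ring

variable {k : Type u} [Field k] [IsAlgClosed k] [CharZero k] {A : Type u} [CommRing A] [HopfAlgebra k A]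
  [Algebra.FiniteType k A] [IsDomain A] (π : A →ₐc[k] MonoidAlgebra k (Lat r))

theorem finite_center (hG : Red.IsSemisimpleOver k (GA k A)) :
    (Subgroup.center (HopfPts.Pt k A) : Set (HopfPts.Pt k A)).Finite := by
  obtain ⟨W, _, σ, hσ⟩ := Torus.GenRep.exists_gen (HopfPts.D k A) hasMul_pts pts_ext
  have hcl := Torus.Diagonal.isCl_centralizer (D := HopfPts.D k A) hσ.reg hσ.faith Set.univ
  refine FiniteCentre.finite_central hG ?_ fun s hs g => Subgroup.mem_center_iff.1 hs g
  convert hcl using 1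
  ext g
  simp [Subgroup.mem_center_iff, eq_comm]

theorem span_roots (hG : Red.IsSemisimpleOver k (GA k A)) (hπ : Function.Surjective π) :
    Submodule.span ℚ (iq '' Roots π) = ⊤ := by
  by_contra h
  obtain ⟨f, hf0, hf⟩ := Submodule.exists_le_ker_of_lt_top _ (lt_top_iff_ne_top.2 h)
  obtain ⟨N, hN, hz⟩ := exists_den fun i => f (Pi.basisFun ℚ (Fin r) i)
  choose z hz using hz
  let q : Lat r →* Lat 1 :=
    { toFun := fun m => Multiplicative.ofAdd fun _ => ∑ i, m.toAdd i * z i
      map_one' := by simp; rfl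
      map_mul' := fun a b => by
        rw [← ofAdd_add]
        congr 1
        funext x
        simp [add_mul, Finset.sum_add_distrib] }
  have hq : ∀ m : Lat r, (((q m).toAdd 0 : ℤ) : ℚ) = N * f (iq m) := by
    intro m
    have : iq m = ∑ i, ((m.toAdd i : ℤ) : ℚ) • Pi.basisFun ℚ (Fin r) i := by
      funext j
      simp [iq, Finset.sum_apply, Pi.single_apply]
    rw [this, map_sum, Finset.mul_sum]
    show (((∑ i, m.toAdd i * z i) : ℤ) : ℚ) = _
    push_cast
    exact Finset.sum_congr rfl fun i _ => by rw [map_smul, smul_eq_mul, hz]; ring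
  obtain ⟨v, hv, hv1⟩ := exists_root_not_ker π hG hπ q fun h1 => hf0 <| by
    refine (Pi.basisFun ℚ (Fin r)).ext fun i => ?_
    have := hq (unit i)
    rw [h1, iq_unit, MonoidHom.one_apply, toAdd_one, Pi.zero_apply, Int.cast_zero] at this
    rw [LinearMap.zero_apply]
    exact (mul_eq_zero.1 this.symm).resolve_left (Nat.cast_ne_zero.2 hN)
  refine hv1 (Multiplicative.toAdd.injective (funext fun x => ?_))
  have := hq v
  rw [show f (iq v) = 0 from hf (Submodule.subset_span ⟨v, hv, rfl⟩), mul_zero] at this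
  rw [Fin.eq_zero x, toAdd_one, Pi.zero_apply]
  exact Int.cast_eq_zero.1 this

theorem finite_roots : (iq '' Roots π).Finite := by
  haveI : IsNoetherianRing A := Algebra.FiniteType.isNoetherianRing k A
  exact ((finite_weights π).subset fun v hv => hv.2).image iq

/-- A reflection of a root lifting to the normaliser. -/
theorem exists_refl (hG : Red.IsSemisimpleOver k (GA k A)) (hπ : Function.Surjective π)
    (hT : AGF.IsMaxTorus (specHom π)) {α : Lat r} (hα : α ∈ Roots π) :
    ∃ n w, ∃ g : (Fin r → ℚ) ≃ₗ[ℚ] (Fin r → ℚ), Rel π n w ∧ g.toLinearMap = ext' w ∧ g ∈ presGrp (iq '' Roots π) ∧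
      g ≠ 1 ∧ ∀ x, ∃ c : ℚ, g x - x = c • iq α := by
  classical
  let q : Lat r →* Lat (r * r) :=
    { toFun := fun m => Multiplicative.ofAdd fun p =>
        α.toAdd (finProdFinEquiv.symm p).1 * m.toAdd (finProdFinEquiv.symm p).2 -
          α.toAdd (finProdFinEquiv.symm p).2 * m.toAdd (finProdFinEquiv.symm p).1
      map_one' := by simp; rfl
      map_mul' := fun a b => by
        rw [← ofAdd_add]
        congr 1
        funext p
        simp [mul_add]
        ring }
  obtain ⟨n, w, hw, hinj, hne, hqw⟩ := exists_reflection π hG.1 hπ hT hα q (by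
    refine Multiplicative.toAdd.injective (funext fun p => ?_)
    show _ - _ = (0 : ℤ)
    ring)
  have hmaps : Set.MapsTo (ext' w) (iq '' Roots π) (iq '' Roots π) := by
    rintro _ ⟨v, hv, rfl⟩
    exact ⟨w v, hw.mapsTo π hinj hv, (ext_iq w v).symm⟩
  have hfin := finite_roots π
  have hinjOn : Set.InjOn (ext' w) (iq '' Roots π) := by
    rintro _ ⟨v, hv, rfl⟩ _ ⟨v', hv', rfl⟩ h
    rw [ext_iq, ext_iq] at h
    rw [hinj (iq_injective h)]
  have hsurjOn : Set.SurjOn (ext' w) (iq '' Roots π) (iq '' Roots π) :=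
    (hfin.injOn_iff_bijOn_of_mapsTo hmaps).1 hinjOn |>.surjOn
  have hsurj : Function.Surjective (ext' w) := by
    rw [← LinearMap.range_eq_top, ← top_le_iff, ← span_roots π hG hπ, Submodule.span_le]
    intro x hx
    obtain ⟨y, -, hy⟩ := hsurjOn hx
    exact ⟨y, hy⟩
  have hbij : Function.Bijective (ext' w) := ⟨LinearMap.injective_iff_surjective.2 hsurj, hsurj⟩
  let g := LinearEquiv.ofBijective (ext' w) hbij
  have hgx : ∀ x, g x = ext' w x := fun x => rfl
  refine ⟨n, w, g, hw, rfl, fun x => ⟨fun hx => hmaps hx, fun hx => ?_⟩, fun h1 => hne ?_, fun x => ?_⟩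
  · obtain ⟨y, hy, hyx⟩ := hsurjOn hx
    exact hbij.1 hyx ▸ hy
  · refine MonoidHom.ext fun m => iq_injective ?_
    rw [← ext_iq, ← hgx, h1]
    rfl
  · obtain ⟨i₀, hi₀⟩ : ∃ i, iq α i ≠ 0 := by
      by_contra h
      push Not at h
      exact hα.1 (iq_injective (by rw [iq_one]; exact funext h))
    have key : ∀ x, ext' w x - x ∈ Submodule.span ℚ {iq α} := by
      intro x
      have hle : (⊤ : Submodule ℚ (Fin r → ℚ)) ≤ Submodule.comap (ext' w - LinearMap.id) (Submodule.span ℚ {iq α}) := by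
        rw [← (Pi.basisFun ℚ (Fin r)).span_eq, Submodule.span_le]
        rintro _ ⟨i, rfl⟩
        rw [SetLike.mem_coe, Submodule.mem_comap, LinearMap.sub_apply, LinearMap.id_apply, ← iq_unit, ext_iq, ← iq_div, Submodule.mem_span_singleton]
        refine ⟨iq (w (unit i) / unit i) i₀ / iq α i₀, funext fun j => ?_⟩
        have h := congrArg (fun z : Lat (r * r) => z.toAdd (finProdFinEquiv (i₀, j))) (DFunLike.congr_fun hqw (unit i))
        simp only [q, MonoidHom.comp_apply, MonoidHom.coe_mk, OneHom.coe_mk, toAdd_ofAdd, Equiv.symm_apply_apply] at h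
        have h' := congrArg (fun z : ℤ => (z : ℚ)) h
        simp only [Int.cast_sub, Int.cast_mul] at h'
        rw [Pi.smul_apply, smul_eq_mul, iq_div]
        simp only [Pi.sub_apply, iq] at hi₀ ⊢
        field_simp
        linear_combination -h'
      exact hle (Submodule.mem_top : x ∈ ⊤)
    obtain ⟨c, hc⟩ := Submodule.mem_span_singleton.1 (key x)
    exact ⟨c, hc.symm⟩

/-- A product of lifts. -/
theorem exists_rel_prod : ∀ (L : List (((Fin r → ℚ) ≃ₗ[ℚ] (Fin r → ℚ)) × (Fin r → ℚ))),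
    (∀ p ∈ L, ∃ n w, Rel π n w ∧ p.1.toLinearMap = ext' w) →
      ∃ n w, Rel π n w ∧ (L.map Prod.fst).prod.toLinearMap = ext' w
  | [], _ => ⟨1, MonoidHom.id _, rel_one π, linear_ext fun m => by rw [ext_iq]; simp⟩
  | p :: L, h => by
    obtain ⟨n, w, hn, hw⟩ := exists_rel_prod L fun q hq => h q (List.mem_cons_of_mem _ hq)
    obtain ⟨m, v, hm, hv⟩ := h p List.mem_cons_self
    refine ⟨n * m, v.comp w, hn.mul π hm, linear_ext fun x => ?_⟩
    rw [List.map_cons, List.prod_cons, ext_iq]
    show p.1.toLinearMap ((L.map Prod.fst).prod.toLinearMap (iq x)) = _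
    rw [hw, ext_iq, hv, ext_iq]
    rfl

/-- A lift of a product of reflections along a basis of roots. -/
theorem exists_coxeter (hG : Red.IsSemisimpleOver k (GA k A)) (hπ : Function.Surjective π)
    (hT : AGF.IsMaxTorus (specHom π)) :
    ∃ n w, ∃ g : (Fin r → ℚ) ≃ₗ[ℚ] (Fin r → ℚ), Rel π n w ∧ g.toLinearMap = ext' w ∧ IsOfFinOrder g ∧
      ∀ v, g v = v → v = 0 := by
  classical
  have hfin := finite_roots π
  have hspan := span_roots π hG hπ
  obtain ⟨b, hbR, hbspan, hbli⟩ := exists_linearIndependent ℚ (iq '' Roots π)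
  haveI : Fintype b := (hfin.subset hbR).fintype
  let e := Fintype.equivFin b
  have hdata : ∀ i : Fin (Fintype.card b), ∃ p : ((Fin r → ℚ) ≃ₗ[ℚ] (Fin r → ℚ)),
      (∃ n w, Rel π n w ∧ p.toLinearMap = ext' w) ∧ p ∈ presGrp (iq '' Roots π) ∧ p ≠ 1 ∧
        ∀ x, ∃ c : ℚ, p x - x = c • (e.symm i : Fin r → ℚ) := by
    intro i
    obtain ⟨α, hα, hαe⟩ := hbR (e.symm i).2
    obtain ⟨n, w, g, h1, h2, h3, h4, h5⟩ := exists_refl π hG hπ hT hα
    exact ⟨g, ⟨n, w, h1, h2⟩, h3, h4, hαe ▸ h5⟩
  choose P hP1 hP2 hP3 hP4 using hdata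
  let L := List.ofFn fun i => (P i, (e.symm i : Fin r → ℚ))
  have hmem : ∀ p ∈ L, ∃ i, (P i, (e.symm i : Fin r → ℚ)) = p := fun p hp => by
    obtain ⟨i, hi⟩ := List.mem_ofFn.1 hp
    exact ⟨i, hi⟩
  obtain ⟨n, w, hn, hw⟩ := exists_rel_prod π L fun p hp => by
    obtain ⟨i, rfl⟩ := hmem p hp
    exact hP1 i
  haveI := finite_presGrp hfin hspan
  have hlen : L.length = Fintype.card b := List.length_ofFn
  have hget : ∀ i : Fin L.length, (L.get i).2 = (e.symm (Fin.cast hlen i) : Fin r → ℚ) := fun i => by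
    simp only [L, List.get_ofFn]
  refine ⟨n, w, _, hn, hw, ?_, fun v hv => eq_zero_of_prod_fixed (G := presGrp (iq '' Roots π)) L ?_ ?_ ?_ ?_ ?_ v hv⟩
  · have hprod : (L.map Prod.fst).prod ∈ presGrp (iq '' Roots π) := list_prod_mem fun x hx => by
      obtain ⟨p, hp, rfl⟩ := List.mem_map.1 hx
      obtain ⟨i, rfl⟩ := hmem p hp
      exact hP2 i
    have h := isOfFinOrder_of_finite (⟨_, hprod⟩ : presGrp (iq '' Roots π))
    exact (presGrp (iq '' Roots π)).subtype.isOfFinOrder h
  · intro p hp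
    obtain ⟨i, rfl⟩ := hmem p hp
    exact hP2 i
  · intro p hp
    obtain ⟨i, rfl⟩ := hmem p hp
    exact hP3 i
  · intro p hp
    obtain ⟨i, rfl⟩ := hmem p hp
    exact hP4 i
  · simp only [hget]
    exact hbli.comp (fun i : Fin L.length => e.symm (Fin.cast hlen i))
      (e.symm.injective.comp (Fin.cast_injective hlen))
  · refine top_le_iff.1 (hspan.symm.trans hbspan.symm |>.trans_le (Submodule.span_mono ?_))
    intro x hx
    exact ⟨Fin.cast hlen.symm (e ⟨x, hx⟩), (hget _).trans (by simp)⟩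

/-- Central elements are commutators of elements of finite order. -/
theorem exists_commutator (hG : Red.IsSemisimpleOver k (GA k A)) (hπ : Function.Surjective π)
    (hT : AGF.IsMaxTorus (specHom π)) {c : HopfPts.Pt k A} (hc : c ∈ Subgroup.center (HopfPts.Pt k A)) :
    ∃ a b : HopfPts.Pt k A, IsOfFinOrder a ∧ IsOfFinOrder b ∧ c = a * b * a⁻¹ * b⁻¹ := by
  classical
  haveI := hT.2.1
  haveI : Smooth (GA k A).hom := hG.1.2.1
  haveI : ConnectedSpace (GA k A).left := hG.1.2.2.1
  obtain ⟨-, -, -, -, hpts⟩ := CentralizerScheme.props (specHom π) hT.2.2.1 (specHom π)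
    (CentralizerRed.isCentralizerOf_self hG.1 hT)
  have htorus : ∀ g : HopfPts.Pt k A, (∀ χ, pt π χ * g = g * pt π χ) → ∃ χ, pt π χ = g := fun g hg => by
    refine (mem_ptsOf_specHom π).1 (hpts ▸ Subgroup.mem_centralizer_iff.2 fun s hs => ?_)
    obtain ⟨χ, rfl⟩ := (mem_ptsOf_specHom π).1 hs
    exact hg χ
  obtain ⟨χc, rfl⟩ := htorus c fun χ => Subgroup.mem_center_iff.1 hc _
  obtain ⟨K, hK0, hK⟩ : ∃ K, 0 < K ∧ χc ^ K = 1 := by
    haveI := (finite_center (A := A) hG).to_subtype
    have h := (Subgroup.center (HopfPts.Pt k A)).subtype.isOfFinOrder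
      (isOfFinOrder_of_finite (⟨_, hc⟩ : Subgroup.center (HopfPts.Pt k A)))
    obtain ⟨K, hK0, hK⟩ := isOfFinOrder_iff_pow_eq_one.1 h
    exact ⟨K, hK0, pt_injective π hπ (by rw [map_pow, map_one]; exact hK)⟩
  obtain ⟨n, w, g, hn, hgw, hfin, hfix⟩ := exists_coxeter π hG hπ hT
  obtain ⟨N, hN0, hN⟩ := isOfFinOrder_iff_pow_eq_one.1 hfin
  have hpow : ∀ j : ℕ, ∃ v, Rel π (n ^ j) v ∧ (g ^ j).toLinearMap = ext' v := by
    intro j
    induction j with
    | zero => exact ⟨MonoidHom.id _, by rw [pow_zero]; exact rel_one π, linear_ext fun m => by rw [ext_iq]; simp⟩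
    | succ j ih =>
      obtain ⟨v, hv, hgv⟩ := ih
      refine ⟨w.comp v, by rw [pow_succ]; exact hv.mul π hn, linear_ext fun x => ?_⟩
      rw [pow_succ', ext_iq]
      show g.toLinearMap ((g ^ j).toLinearMap (iq x)) = _
      rw [hgw, hgv, ext_iq, ext_iq]
      rfl
  obtain ⟨v, hv, hgv⟩ := hpow N
  have hv1 : v = MonoidHom.id _ := MonoidHom.ext fun m => iq_injective (by
    rw [← ext_iq, ← hgv, hN]
    rfl)
  subst hv1
  obtain ⟨χ₀, hχ₀⟩ := htorus (n ^ N) fun χ => (mul_inv_eq_iff_eq_mul.1 (hv χ)).symm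
  have hχ₀w : χ₀.comp w = χ₀ := pt_injective π hπ (by
    rw [← hn χ₀, hχ₀, mul_inv_eq_iff_eq_mul, ← pow_succ', ← pow_succ])
  -- inversion of the reflection product
  let T : (Fin r → ℚ) →ₗ[ℚ] (Fin r → ℚ) := ext' w - LinearMap.id
  have hTinj : Function.Injective T := by
    rw [injective_iff_map_eq_zero]
    intro x hx
    refine hfix x (sub_eq_zero.1 ?_)
    rw [show g x = g.toLinearMap x from rfl, hgw]
    exact hx
  have hTsurj : Function.Surjective T := LinearMap.injective_iff_surjective.1 hTinj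
  choose x hx using fun i => hTsurj (Pi.basisFun ℚ (Fin r) i)
  obtain ⟨D, hD, hz⟩ := exists_den fun p : Fin r × Fin r => x p.1 p.2
  choose z hz using hz
  let u : Lat r →* Lat r :=
    { toFun := fun m => Multiplicative.ofAdd fun j => ∑ i, m.toAdd i * z (i, j)
      map_one' := by simp; rfl
      map_mul' := fun a b => by
        rw [← ofAdd_add]
        congr 1
        funext j
        simp [add_mul, Finset.sum_add_distrib] }
  have hu : ∀ m, T (iq (u m)) = (D : ℚ) • iq m := by
    intro m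
    have h1 : iq (u m) = ∑ i, ((m.toAdd i : ℤ) : ℚ) • ((D : ℚ) • x i) := by
      funext j
      show (((∑ i, m.toAdd i * z (i, j)) : ℤ) : ℚ) = _
      push_cast
      simp [Finset.sum_apply, hz]
    have h2 : iq m = ∑ i, ((m.toAdd i : ℤ) : ℚ) • Pi.basisFun ℚ (Fin r) i := by
      funext j
      simp [iq, Finset.sum_apply, Pi.single_apply]
    rw [h1, map_sum, h2, Finset.smul_sum]
    exact Finset.sum_congr rfl fun i _ => by rw [map_smul, map_smul, hx, smul_comm]
  have hTiq : ∀ m, T (iq m) = iq (w m / m) := fun m => by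
    rw [iq_div, ← ext_iq]
    rfl
  have hwu : ∀ m, w (u m) / u m = m ^ D := fun m => iq_injective (by rw [← hTiq, hu, iq_pow])
  have huw : ∀ m, u (w m / m) = m ^ D := fun m => iq_injective (hTinj (by
    rw [hu, iq_pow, map_smul, hTiq]))
  have hχ₀D : χ₀ ^ D = 1 := MonoidHom.ext fun m => by
    rw [MonoidHom.pow_apply, ← map_pow, ← hwu, map_div, MonoidHom.one_apply,
      show χ₀ (w (u m)) = χ₀ (u m) from DFunLike.congr_fun hχ₀w _, div_self']
  choose root hroot using fun i => IsAlgClosed.exists_pow_nat_eq ((χc (unit i) : kˣ) : k) (Nat.pos_of_ne_zero hD)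
  let ψ : Lat r →* kˣ := charOf fun i => Units.mk0 (root i) fun h0 => by
    have := hroot i
    rw [h0, zero_pow hD] at this
    exact (χc (unit i)).ne_zero this.symm
  have hψ : ψ ^ D = χc := hom_ext fun i => Units.ext (by
    rw [MonoidHom.pow_apply, charOf_single, zpow_one, Units.val_pow_eq_pow_val, Units.val_mk0]
    exact hroot i)
  refine ⟨n, pt π (ψ.comp u), isOfFinOrder_iff_pow_eq_one.2 ⟨N * D, Nat.mul_pos hN0 (Nat.pos_of_ne_zero hD), ?_⟩,
    isOfFinOrder_iff_pow_eq_one.2 ⟨D * K, Nat.mul_pos (Nat.pos_of_ne_zero hD) hK0, ?_⟩, ?_⟩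
  · rw [pow_mul, ← hχ₀, ← map_pow, hχ₀D, map_one]
  · rw [← map_pow, show (ψ.comp u) ^ (D * K) = ((ψ ^ D) ^ K).comp u from MonoidHom.ext fun m => by
      simp [pow_mul], hψ, hK, MonoidHom.one_comp, map_one]
  · rw [hn, ← map_inv, ← map_mul]
    congr 1
    refine MonoidHom.ext fun m => ?_
    rw [MonoidHom.mul_apply, MonoidHom.inv_apply, ← div_eq_mul_inv]
    show χc m = ψ (u (w m)) / ψ (u m)
    rw [← map_div, ← map_div, huw, map_pow, ← MonoidHom.pow_apply, hψ]

end

end Groth.Agent.H66.Weyl
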